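import Groth.Prelude.Def_RootCh
import Mathlib.LinearAlgebra.RootSystem.BaseExists
import Mathlib.LinearAlgebra.RootSystem.Finite.Nondegenerate
import Mathlib.Data.Sign.Basic

/-!
# Root systems over an ordered field: sign vectors, chambers, fundamental weights (basic lemmas)
-/

set_option autoImplicit false
set_option linter.unusedSectionVars false
set_option linter.style.haveILetI false

noncomputable section

open Module RootCh

namespace K816.Basics

universe u v w x

variable {ι : Type u} {R : Type v} {M : Type w} {N : Type x}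
    [Field R] [LinearOrder R] [IsStrictOrderedRing R]
    [AddCommGroup M] [Module R M] [AddCommGroup N] [Module R N] [Finite ι]

/-- The polarization isomorphism `M ≃ N` given by the canonical invariant form. -/
def pol (P : RootPairing ι R M N) [P.IsRootSystem] : M ≃ₗ[R] N :=
  letI := Fintype.ofFinite ι
  P.PolarizationEquiv

variable {P : RootPairing ι R M N} [P.IsRootSystem]

lemma pol_apply [Fintype ι] (ξ : M) : pol P ξ = P.Polarization ξ := by
  rw [pol]
  convert P.polarizationEquiv_apply ξ

lemma toLinearMap_pol_symm (ξ η : M) :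
    P.toLinearMap ξ (pol P η) = P.toLinearMap η (pol P ξ) := by
  letI := Fintype.ofFinite ι
  rw [pol_apply, pol_apply, P.toLinearMap_apply_apply_Polarization,
    P.toLinearMap_apply_apply_Polarization]
  exact (P.rootForm_symmetric.eq ξ η).symm

/-- there is a positive scalar `c` with `pol (root i) = c • coroot i`. -/
lemma exists_pol_root (i : ι) : ∃ c : R, 0 < c ∧ pol P (P.root i) = c • P.coroot i := by
  letI := Fintype.ofFinite ι
  have h0 : 0 < P.RootForm (P.root i) (P.root i) := by
    apply P.rootForm_pos_of_ne_zero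
    · exact Submodule.subset_span ⟨i, rfl⟩
    · exact P.ne_zero i
  refine ⟨P.RootForm (P.root i) (P.root i) / 2, by positivity, ?_⟩
  have := P.coroot_eq_polarizationEquiv_apply_root i
  rw [this, smul_smul, P.polarizationEquiv_apply, pol_apply]
  have h2 : P.RootForm (P.root i) (P.root i) / 2 * (2 / P.RootForm (P.root i) (P.root i)) = 1 := by
    field_simp
  rw [h2, one_smul]

/-- The pairing of a root with `pol ξ` is a positive multiple of the pairing of `ξ` with the
coroot. -/
lemma exists_root'_pol (i : ι) :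
    ∃ c : R, 0 < c ∧ ∀ ξ : M, P.root' i (pol P ξ) = c * P.coroot' i ξ := by
  obtain ⟨c, hc, h⟩ := exists_pol_root (P := P) i
  refine ⟨c, hc, fun ξ => ?_⟩
  change P.toLinearMap (P.root i) (pol P ξ) = c * P.toLinearMap ξ (P.coroot i)
  rw [toLinearMap_pol_symm, h, map_smul, smul_eq_mul]

lemma cosgnVec_pol (ξ : M) : cosgnVec P (pol P ξ) = sgnVec P ξ := by
  funext i
  obtain ⟨c, hc, h⟩ := exists_root'_pol (P := P) i
  simp only [cosgnVec, sgnVec, h, sign_mul, sign_pos hc, one_mul]

/-! ### Negation -/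

lemma coroot'_neg_index (i : ι) (ξ : M) :
    P.coroot' (P.reflectionPerm i i) ξ = - P.coroot' i ξ := by
  letI := P.indexNeg
  change P.toLinearMap ξ (P.coroot (-i)) = - P.toLinearMap ξ (P.coroot i)
  simp

lemma root'_neg_index (i : ι) (y : N) :
    P.root' (P.reflectionPerm i i) y = - P.root' i y := by
  letI := P.indexNeg
  change P.toLinearMap (P.root (-i)) y = - P.toLinearMap (P.root i) y
  simp

lemma sgnVec_neg_index (ξ : M) (i : ι) :
    sgnVec P ξ (P.reflectionPerm i i) = - sgnVec P ξ i := by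
  simp only [sgnVec, coroot'_neg_index, Left.sign_neg]

lemma cosgnVec_neg_index (y : N) (i : ι) :
    cosgnVec P y (P.reflectionPerm i i) = - cosgnVec P y i := by
  simp only [cosgnVec, root'_neg_index, Left.sign_neg]

lemma facet_sgn_neg_index (F : Facet P) (i : ι) :
    F.sgn (P.reflectionPerm i i) = - F.sgn i := by
  obtain ⟨ξ, hξ⟩ := F.exists_sgnVec_eq
  rw [← hξ, sgnVec_neg_index]

lemma neg_neg_index (i : ι) :
    P.reflectionPerm (P.reflectionPerm i i) (P.reflectionPerm i i) = i := by
  letI := P.indexNeg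
  exact neg_neg i

lemma isPos_neg_index (b : P.Base) (i : ι) : b.IsPos (P.reflectionPerm i i) ↔ ¬ b.IsPos i :=
  RootPairing.Base.IsPos.neg_iff_not b i

/-! ### Expansions in the simple roots -/

lemma exists_nat_coeff (b : P.Base) {j : ι} (hj : b.IsPos j) :
    ∃ m : ι → ℕ, P.root j = ∑ k ∈ b.support, m k • P.root k := by
  obtain ⟨f, hf, h | h⟩ := b.exists_root_eq_sum_nat_or_neg j
  · exact ⟨f, h⟩
  · exfalso
    have h1 : b.height j = ∑ k ∈ b.support, -(f k : ℤ) :=
      RootPairing.Base.height_eq_sum (by simp [h])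
    have h2 : 0 < b.height j := hj
    rw [h1] at h2
    have h3 : ∑ k ∈ b.support, -(f k : ℤ) ≤ 0 := Finset.sum_nonpos (fun k _ => by simp)
    lia

lemma exists_nat_coeff' (b : P.Base) {j : ι} (hj : b.flip.IsPos j) :
    ∃ m : ι → ℕ, P.coroot j = ∑ k ∈ b.support, m k • P.coroot k :=
  exists_nat_coeff (P := P.flip) b.flip hj

lemma root'_nonneg_of_isPos (b : P.Base) {j : ι} (hj : b.IsPos j) (y : N)
    (hy : ∀ k ∈ b.support, 0 ≤ P.root' k y) : 0 ≤ P.root' j y := by
  obtain ⟨m, hm⟩ := exists_nat_coeff b hj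
  change 0 ≤ P.toLinearMap (P.root j) y
  rw [hm, map_sum, LinearMap.sum_apply]
  refine Finset.sum_nonneg fun k hk => ?_
  rw [map_nsmul, LinearMap.smul_apply]
  exact nsmul_nonneg (hy k hk) _

lemma root'_pos_of_isPos (b : P.Base) {j : ι} (hj : b.IsPos j) (y : N)
    (hy : ∀ k ∈ b.support, 0 < P.root' k y) : 0 < P.root' j y := by
  obtain ⟨m, hm⟩ := exists_nat_coeff b hj
  refine lt_of_le_of_ne (root'_nonneg_of_isPos b hj y fun k hk => (hy k hk).le) fun h0 => ?_
  have h1 : ∀ k ∈ b.support, m k • P.toLinearMap (P.root k) y = 0 := by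
    rw [← Finset.sum_eq_zero_iff_of_nonneg]
    · change 0 = P.toLinearMap (P.root j) y at h0
      rw [hm, map_sum, LinearMap.sum_apply] at h0
      rw [h0]
      simp
    · intro k hk
      exact nsmul_nonneg (hy k hk).le _
  have h2 : ∀ k ∈ b.support, m k = 0 := by
    intro k hk
    have := h1 k hk
    rw [smul_eq_zero] at this
    exact this.resolve_right (hy k hk).ne'
  apply P.ne_zero j
  rw [hm]
  exact Finset.sum_eq_zero fun k hk => by rw [h2 k hk, zero_smul]

lemma root'_pos_iff_isPos (b : P.Base) (j : ι) (y : N)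
    (hy : ∀ k ∈ b.support, 0 < P.root' k y) : 0 < P.root' j y ↔ b.IsPos j := by
  refine ⟨fun h => ?_, fun h => root'_pos_of_isPos b h y hy⟩
  by_contra hn
  rw [← isPos_neg_index] at hn
  have := root'_pos_of_isPos b hn y hy
  rw [root'_neg_index] at this
  linarith

/-! ### Fundamental weights -/

lemma coroot'_fundWeight [DecidableEq ι] (b : P.Base) (i j : b.support) :
    P.coroot' j (fundWeight b i) = if j = i then 1 else 0 := by
  split_ifs with h
  · subst h; exact coroot'_fundWeight_self b j
  · exact coroot'_fundWeight_of_ne b i j h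

lemma root'_fundCoweight [DecidableEq ι] (b : P.Base) (i j : b.support) :
    P.root' j (fundCoweight b i) = if j = i then 1 else 0 := by
  split_ifs with h
  · subst h; exact root'_fundCoweight_self b j
  · exact root'_fundCoweight_of_ne b i j h

/-- Two vectors of `M` with the same pairings with the simple coroots are equal. -/
lemma ext_coroot' (b : P.Base) {ξ η : M} (h : ∀ k ∈ b.support, P.coroot' k ξ = P.coroot' k η) :
    ξ = η := by
  apply P.toPerfPair.injective
  apply b.toCoweightBasis.ext
  intro k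
  rw [b.toCoweightBasis_apply]
  exact h k k.2

lemma ext_root' (b : P.Base) {y z : N} (h : ∀ k ∈ b.support, P.root' k y = P.root' k z) :
    y = z :=
  ext_coroot' (P := P.flip) b.flip h

lemma sum_fundWeight (b : P.Base) (ξ : M) :
    ∑ k : b.support, P.coroot' k ξ • fundWeight b k = ξ := by
  classical
  apply ext_coroot' b
  intro k hk
  rw [map_sum]
  simp only [map_smul, smul_eq_mul]
  rw [Finset.sum_eq_single (⟨k, hk⟩ : b.support)]
  · rw [coroot'_fundWeight_self b ⟨k, hk⟩, mul_one]
  · intro l _ hl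
    rw [coroot'_fundWeight_of_ne b l ⟨k, hk⟩ hl.symm, mul_zero]
  · intro h; exact absurd (Finset.mem_univ _) h

lemma sum_fundCoweight (b : P.Base) (y : N) :
    ∑ k : b.support, P.root' k y • fundCoweight b k = y :=
  sum_fundWeight (P := P.flip) b.flip y

lemma pairing_eq_sum (b : P.Base) (ξ : M) (y : N) :
    P.toLinearMap ξ y = ∑ k : b.support, P.coroot' k ξ * P.toLinearMap (fundWeight b k) y := by
  conv_lhs => rw [← sum_fundWeight b ξ]
  rw [map_sum, LinearMap.sum_apply]
  simp

lemma pairing_eq_sum' (b : P.Base) (ξ : M) (y : N) :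
    P.toLinearMap ξ y = ∑ k : b.support, P.root' k y * P.toLinearMap ξ (fundCoweight b k) := by
  conv_lhs => rw [← sum_fundCoweight b y]
  rw [map_sum]
  simp

lemma sum_coroot (b : P.Base) (y : N) :
    ∑ k : b.support, P.toLinearMap (fundWeight b k) y • P.coroot k = y := by
  apply P.flip.toPerfPair.injective
  ext ξ
  change P.toLinearMap ξ (∑ k : b.support, P.toLinearMap (fundWeight b k) y • P.coroot k) =
    P.toLinearMap ξ y
  rw [pairing_eq_sum b ξ y, map_sum]
  refine Finset.sum_congr rfl fun k _ => ?_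
  rw [map_smul, smul_eq_mul, mul_comm]
  rfl

lemma sum_root (b : P.Base) (ξ : M) :
    ∑ k : b.support, P.toLinearMap ξ (fundCoweight b k) • P.root k = ξ :=
  sum_coroot (P := P.flip) b.flip ξ

/-- The sum of the fundamental weights -/
def rho (b : P.Base) : M := ∑ k : b.support, fundWeight b k

/-- The sum of the fundamental coweights -/
def corho (b : P.Base) : N := ∑ k : b.support, fundCoweight b k

lemma coroot'_rho (b : P.Base) {k : ι} (hk : k ∈ b.support) : P.coroot' k (rho b) = 1 := by
  classical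
  rw [rho, map_sum, Finset.sum_eq_single (⟨k, hk⟩ : b.support)]
  · exact coroot'_fundWeight_self b ⟨k, hk⟩
  · intro l _ hl
    exact coroot'_fundWeight_of_ne b l ⟨k, hk⟩ hl.symm
  · intro h; exact absurd (Finset.mem_univ _) h

lemma root'_corho (b : P.Base) {k : ι} (hk : k ∈ b.support) : P.root' k (corho b) = 1 :=
  coroot'_rho (P := P.flip) b.flip hk

lemma isPos_flip_of_isPos (b : P.Base) {j : ι} (hj : b.IsPos j) : b.flip.IsPos j := by
  have h1 : 0 < P.root' j (pol P (rho b)) := by
    apply root'_pos_of_isPos b hj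
    intro k hk
    obtain ⟨c, hc, h⟩ := exists_root'_pol (P := P) k
    rw [h, coroot'_rho b hk, mul_one]
    exact hc
  obtain ⟨c, hc, h⟩ := exists_root'_pol (P := P) j
  rw [h] at h1
  have h2 : 0 < P.flip.root' j (rho b) := (mul_pos_iff_of_pos_left hc).1 h1
  refine (root'_pos_iff_isPos (P := P.flip) b.flip j (rho b) ?_).1 h2
  intro k hk
  have := coroot'_rho b hk
  change 0 < P.coroot' k (rho b)
  rw [this]
  exact one_pos

lemma isPos_flip (b : P.Base) {j : ι} : b.flip.IsPos j ↔ b.IsPos j :=
  ⟨fun h => isPos_flip_of_isPos (P := P.flip) b.flip h, isPos_flip_of_isPos b⟩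

lemma coroot'_nonneg_of_isPos (b : P.Base) {j : ι} (hj : b.IsPos j) (ξ : M)
    (hξ : ∀ k ∈ b.support, 0 ≤ P.coroot' k ξ) : 0 ≤ P.coroot' j ξ :=
  root'_nonneg_of_isPos (P := P.flip) b.flip ((isPos_flip b).2 hj) ξ hξ

lemma coroot'_pos_iff_isPos (b : P.Base) (j : ι) (ξ : M)
    (hξ : ∀ k ∈ b.support, 0 < P.coroot' k ξ) : 0 < P.coroot' j ξ ↔ b.IsPos j := by
  rw [← isPos_flip b]
  exact root'_pos_iff_isPos (P := P.flip) b.flip j ξ hξ

lemma mem_closedChamber_iff (b : P.Base) (ξ : M) :
    ξ ∈ closedChamber b ↔ ∀ i, b.IsPos i → 0 ≤ P.coroot' i ξ :=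
  ⟨fun h _ hi => coroot'_nonneg_of_isPos b hi ξ h,
    fun h _ hi => h _ (RootPairing.Base.isPos_of_mem_support hi)⟩

lemma mem_openChamber_iff (b : P.Base) (ξ : M) :
    ξ ∈ openChamber b ↔ ∀ i, b.IsPos i → 0 < P.coroot' i ξ :=
  ⟨fun h _ hi => (coroot'_pos_iff_isPos b _ ξ h).2 hi,
    fun h _ hi => h _ (RootPairing.Base.isPos_of_mem_support hi)⟩

lemma rho_mem_openChamber (b : P.Base) : rho b ∈ openChamber b := by
  intro k hk
  rw [coroot'_rho b hk]
  exact one_pos

lemma fundWeight_mem_closedChamber (b : P.Base) (k : b.support) :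
    fundWeight b k ∈ closedChamber b := by
  classical
  intro j hj
  rw [coroot'_fundWeight b k ⟨j, hj⟩]
  split_ifs <;> simp

lemma fundWeight_mem_fundWeights (b : P.Base) (k : b.support) : fundWeight b k ∈ fundWeights P :=
  ⟨b, k, rfl⟩

/-- coefficient of a positive coroot on a simple coroot is a natural number. -/
lemma exists_nat_coroot'_fundWeight (b : P.Base) {j : ι} (hj : b.IsPos j) (k : b.support) :
    ∃ n : ℕ, P.coroot' j (fundWeight b k) = n := by
  classical
  obtain ⟨m, hm⟩ := exists_nat_coeff' b ((isPos_flip b).2 hj)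
  refine ⟨m k, ?_⟩
  change P.toLinearMap (fundWeight b k) (P.coroot j) = _
  rw [hm, map_sum, Finset.sum_eq_single (k : ι)]
  · rw [map_nsmul]
    change m k • P.coroot' k (fundWeight b k) = _
    rw [coroot'_fundWeight_self]
    simp
  · intro l hl hlk
    rw [map_nsmul]
    change m l • P.coroot' l (fundWeight b k) = _
    rw [coroot'_fundWeight_of_ne b k ⟨l, hl⟩ (fun h => hlk (congrArg Subtype.val h)), smul_zero]
  · intro h; exact absurd k.2 h

lemma exists_int_coroot'_fundWeight (b : P.Base) (j : ι) (k : b.support) :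
    ∃ n : ℤ, P.coroot' j (fundWeight b k) = n := by
  by_cases hj : b.IsPos j
  · obtain ⟨n, hn⟩ := exists_nat_coroot'_fundWeight b hj k
    exact ⟨n, by simpa using hn⟩
  · rw [← isPos_neg_index] at hj
    obtain ⟨n, hn⟩ := exists_nat_coroot'_fundWeight b hj k
    rw [coroot'_neg_index] at hn
    exact ⟨-n, by push_cast; linarith⟩

lemma exists_nat_root'_fundCoweight (b : P.Base) {j : ι} (hj : b.IsPos j) (k : b.support) :
    ∃ n : ℕ, P.root' j (fundCoweight b k) = n :=
  exists_nat_coroot'_fundWeight (P := P.flip) b.flip ((isPos_flip b).2 hj) k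

lemma exists_int_root'_fundCoweight (b : P.Base) (j : ι) (k : b.support) :
    ∃ n : ℤ, P.root' j (fundCoweight b k) = n :=
  exists_int_coroot'_fundWeight (P := P.flip) b.flip j k

/-- The polarization sends a fundamental weight to a positive multiple of the corresponding
fundamental coweight. -/
lemma exists_pol_fundWeight (b : P.Base) (k : b.support) :
    ∃ c : R, 0 < c ∧ pol P (fundWeight b k) = c • fundCoweight b k := by
  obtain ⟨c, hc, h⟩ := exists_root'_pol (P := P) (k : ι)
  refine ⟨c, hc, ?_⟩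
  apply ext_root' b
  intro l hl
  rw [map_smul, smul_eq_mul]
  by_cases hlk : (⟨l, hl⟩ : b.support) = k
  · subst hlk
    rw [h, coroot'_fundWeight_self b ⟨l, hl⟩, root'_fundCoweight_self b ⟨l, hl⟩]
  · obtain ⟨c', hc', h'⟩ := exists_root'_pol (P := P) l
    rw [h', coroot'_fundWeight_of_ne b k ⟨l, hl⟩ hlk, root'_fundCoweight_of_ne b k ⟨l, hl⟩ hlk,
      mul_zero, mul_zero]

lemma cosgnVec_smul {c : R} (hc : 0 < c) (y : N) : cosgnVec P (c • y) = cosgnVec P y := by
  funext i
  simp only [cosgnVec, map_smul, smul_eq_mul, sign_mul, sign_pos hc, one_mul]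

lemma sgnVec_smul {c : R} (hc : 0 < c) (ξ : M) : sgnVec P (c • ξ) = sgnVec P ξ := by
  funext i
  simp only [sgnVec, map_smul, smul_eq_mul, sign_mul, sign_pos hc, one_mul]

/-- Corresponding fundamental weight and coweight have the same sign vector. -/
lemma cosgnVec_fundCoweight (b : P.Base) (k : b.support) :
    cosgnVec P (fundCoweight b k) = sgnVec P (fundWeight b k) := by
  obtain ⟨c, hc, h⟩ := exists_pol_fundWeight b k
  rw [← cosgnVec_pol, h, cosgnVec_smul hc]

lemma Corr.cosgnVec_eq {m : M} {y : N} (h : Corr P m y) : cosgnVec P y = sgnVec P m := by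
  obtain ⟨b, k, rfl, rfl⟩ := h
  exact cosgnVec_fundCoweight b k

end K816.Basics
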