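import Groth.Agent.RootCh.K816.Basics

/-!
# Root systems over an ordered field: existence of chambers, facets in terms of a base
-/

set_option autoImplicit false
set_option linter.unusedSectionVars false
set_option linter.style.haveILetI false

noncomputable section

open Module RootCh K816.Basics

namespace K816.Chambers

universe u v w x

variable {ι : Type u} {R : Type v} {M : Type w} {N : Type x}
    [Field R] [LinearOrder R] [IsStrictOrderedRing R]
    [AddCommGroup M] [Module R M] [AddCommGroup N] [Module R N] [Finite ι]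

variable {P : RootPairing ι R M N} [P.IsRootSystem]

section Perturb

lemma sign_add_of_abs_lt {a x : R} (h : |x| < |a|) : SignType.sign (a + x) = SignType.sign a := by
  rcases lt_trichotomy a 0 with ha | ha | ha
  · rw [abs_of_neg ha] at h
    have := (abs_lt.1 h)
    rw [sign_neg ha, sign_neg (by linarith [this.2])]
  · subst ha; simp at h; exact absurd h (by simp [abs_nonneg])
  · rw [abs_of_pos ha] at h
    have := (abs_lt.1 h)
    rw [sign_pos ha, sign_pos (by linarith [this.1])]

lemma exists_eps (a c : R) : ∃ δ : R, 0 < δ ∧ ∀ ε : R, 0 < ε → ε ≤ δ →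
    SignType.sign (a + ε * c) = if a = 0 then SignType.sign c else SignType.sign a := by
  by_cases ha : a = 0
  · refine ⟨1, one_pos, fun ε hε _ => ?_⟩
    rw [if_pos ha, ha, zero_add, sign_mul, sign_pos hε, one_mul]
  · have ha' : 0 < |a| := abs_pos.2 ha
    refine ⟨|a| / (|c| + 1), by positivity, fun ε hε hεδ => ?_⟩
    rw [if_neg ha]
    apply sign_add_of_abs_lt
    rw [abs_mul, abs_of_pos hε]
    calc ε * |c| ≤ |a| / (|c| + 1) * |c| := by gcongr
      _ < |a| / (|c| + 1) * (|c| + 1) := by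
        apply mul_lt_mul_of_pos_left _ (by positivity)
        linarith
      _ = |a| := by field_simp

lemma exists_pos_le_forall {κ : Type*} [Finite κ] (δ : κ → R) (h : ∀ i, 0 < δ i) :
    ∃ ε : R, 0 < ε ∧ ∀ i, ε ≤ δ i := by
  haveI : Nonempty {x : R // 0 < x} := ⟨⟨1, one_pos⟩⟩
  obtain ⟨⟨ε, hε⟩, h'⟩ := Finite.exists_ge (fun i => (⟨δ i, h i⟩ : {x : R // 0 < x}))
  exact ⟨ε, hε, fun i => h' i⟩

variable (P) in
/-- A small perturbation of `ξ` in direction `η`. -/
lemma exists_perturb (ξ η : M) : ∃ ε : R, 0 < ε ∧ ∀ i, sgnVec P (ξ + ε • η) i =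
    if P.coroot' i ξ = 0 then sgnVec P η i else sgnVec P ξ i := by
  choose δ hδ h using fun i : ι => exists_eps (P.coroot' i ξ) (P.coroot' i η)
  obtain ⟨ε, hε, h'⟩ := exists_pos_le_forall δ hδ
  refine ⟨ε, hε, fun i => ?_⟩
  have := h i ε hε (h' i)
  simpa only [sgnVec, map_add, map_smul, smul_eq_mul] using this

end Perturb

variable [P.IsCrystallographic] [P.IsReduced]

/-- Every regular vector lies in the open chamber of a base. -/
lemma exists_base_of_regular (ξ : M) (hξ : ∀ i, P.coroot' i ξ ≠ 0) :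
    ∃ b : P.Base, ξ ∈ openChamber b := by
  let f : Dual R M := P.toLinearMap.flip (pol P ξ)
  have hfi : ∀ i, ∃ c : R, 0 < c ∧ f (P.root i) = c * P.coroot' i ξ := by
    intro i
    obtain ⟨c, hc, h⟩ := exists_root'_pol (P := P) i
    exact ⟨c, hc, h ξ⟩
  have hf : ∀ i, f (P.root i) ≠ 0 := by
    intro i
    obtain ⟨c, hc, h⟩ := hfi i
    rw [h]
    exact mul_ne_zero hc.ne' (hξ i)
  have hli := P.linearIndepOn_root_baseOf' f hf
  have hsp : ∀ i, P.root i ∈ AddSubmonoid.closure (P.root '' (IsAddIndecomposable.baseOf P.root (f : M →+ R))) ∨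
      -P.root i ∈ AddSubmonoid.closure (P.root '' (IsAddIndecomposable.baseOf P.root (f : M →+ R))) := by
    letI := P.indexNeg
    intro i
    exact IsAddIndecomposable.mem_or_neg_mem_closure_baseOf P.root (f : M →+ R) i (hf i) (by simp)
  refine ⟨RootPairing.Base.mk' P _ hli hsp, ?_⟩
  intro k hk
  have hk' : k ∈ IsAddIndecomposable.baseOf P.root (f : M →+ R) := by
    simpa [RootPairing.Base.mk'] using hk
  have h1 : 0 < f (P.root k) := IsAddIndecomposable.baseOf_subset_pos P.root (f : M →+ R) hk'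
  obtain ⟨c, hc, h⟩ := hfi k
  rw [h] at h1
  exact (mul_pos_iff_of_pos_left hc).1 h1

lemma exists_base_lex (ξ η : M) : ∃ b : P.Base, ∀ i, b.IsPos i →
    0 < P.coroot' i ξ ∨ (P.coroot' i ξ = 0 ∧ 0 ≤ P.coroot' i η) := by
  obtain ⟨b₀⟩ := P.nonempty_base
  have hreg : ∀ i, sgnVec P (rho b₀) i ≠ 0 := by
    intro i h
    have h' : P.coroot' i (rho b₀) = 0 := by simpa [sgnVec] using h
    by_cases hi : b₀.IsPos i
    · have := (mem_openChamber_iff b₀ _).1 (rho_mem_openChamber b₀) i hi
      exact this.ne' h'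
    · rw [← isPos_neg_index] at hi
      have := (mem_openChamber_iff b₀ _).1 (rho_mem_openChamber b₀) _ hi
      rw [coroot'_neg_index, h'] at this
      simp at this
  obtain ⟨ε₁, hε₁, h1⟩ := exists_perturb P η (rho b₀)
  obtain ⟨ε₂, hε₂, h2⟩ := exists_perturb P ξ (η + ε₁ • rho b₀)
  have h3 : ∀ i, P.coroot' i (ξ + ε₂ • (η + ε₁ • rho b₀)) ≠ 0 := by
    intro i hi
    have h2i := h2 i
    have h1i := h1 i
    have : sgnVec P (ξ + ε₂ • (η + ε₁ • rho b₀)) i = 0 := by
      simp only [sgnVec, hi, sign_zero]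
    rw [this] at h2i
    split_ifs at h2i with h4
    · rw [h1i] at h2i
      split_ifs at h2i with h5
      · exact hreg i h2i.symm
      · apply h5
        simpa [sgnVec] using h2i.symm
    · apply h4
      simpa [sgnVec] using h2i.symm
  obtain ⟨b, hb⟩ := exists_base_of_regular _ h3
  refine ⟨b, fun i hi => ?_⟩
  have h4 := (mem_openChamber_iff b _).1 hb i hi
  have h2i := h2 i
  have h1i := h1 i
  have : sgnVec P (ξ + ε₂ • (η + ε₁ • rho b₀)) i = 1 := by
    simp only [sgnVec, sign_pos h4]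
  rw [this] at h2i
  split_ifs at h2i with h5
  · right
    refine ⟨h5, ?_⟩
    rw [h1i] at h2i
    split_ifs at h2i with h6
    · exact h6.ge
    · have : P.coroot' i η > 0 := by
        apply sign_eq_one_iff.1
        simpa [sgnVec] using h2i.symm
      exact this.le
  · left
    apply sign_eq_one_iff.1
    simpa [sgnVec] using h2i.symm

/-- Every vector lies in the closed chamber of a base. -/
lemma exists_mem_closedChamber (ξ : M) : ∃ b : P.Base, ξ ∈ closedChamber b := by
  obtain ⟨b, hb⟩ := exists_base_lex (P := P) ξ 0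
  refine ⟨b, (mem_closedChamber_iff b ξ).2 fun i hi => ?_⟩
  rcases hb i hi with h | ⟨h, -⟩
  · exact h.le
  · exact h.ge

omit [P.IsCrystallographic] [P.IsReduced]

/-! ### Signs in terms of a base -/

/-- A positive coroot vanishes on a dominant vector iff it vanishes termwise. -/
lemma coroot'_eq_zero_iff (b : P.Base) {ξ : M} (hξ : ξ ∈ closedChamber b) {i : ι}
    (hi : b.IsPos i) : P.coroot' i ξ = 0 ↔
      ∀ k : b.support, P.coroot' k ξ = 0 ∨ P.coroot' i (fundWeight b k) = 0 := by
  have h1 : P.coroot' i ξ = ∑ k : b.support, P.coroot' k ξ * P.coroot' i (fundWeight b k) :=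
    pairing_eq_sum b ξ (P.coroot i)
  rw [h1, Finset.sum_eq_zero_iff_of_nonneg]
  · simp only [mul_eq_zero, Finset.mem_univ, forall_true_left]
  · intro k _
    refine mul_nonneg (hξ k k.2) ?_
    obtain ⟨n, hn⟩ := exists_nat_coroot'_fundWeight b hi k
    rw [hn]
    exact Nat.cast_nonneg n

lemma sgnVec_eq_zero_iff (ξ : M) (i : ι) : sgnVec P ξ i = 0 ↔ P.coroot' i ξ = 0 := by
  simp [sgnVec]

lemma sgnVec_ne_neg_one_iff (ξ : M) (i : ι) : sgnVec P ξ i ≠ -1 ↔ 0 ≤ P.coroot' i ξ := by
  rw [sgnVec, Ne, sign_eq_neg_one_iff, not_lt]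

lemma sgnVec_eq_one_iff (ξ : M) (i : ι) : sgnVec P ξ i = 1 ↔ 0 < P.coroot' i ξ := by
  rw [sgnVec, sign_eq_one_iff]

lemma cosgnVec_ne_neg_one_iff (y : N) (i : ι) : cosgnVec P y i ≠ -1 ↔ 0 ≤ P.root' i y := by
  rw [cosgnVec, Ne, sign_eq_neg_one_iff, not_lt]

lemma signType_cases (s : SignType) : s = 0 ∨ s = 1 ∨ s = -1 := by
  revert s; decide

lemma signType_zero_or_one {s : SignType} (h : s ≠ -1) : s = 0 ∨ s = 1 := by
  revert s; decide

lemma Facet.carrier_nonempty (F : Facet P) : F.carrier.Nonempty := F.exists_sgnVec_eq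

lemma mem_cham_iff_of_mem (F : Facet P) (b : P.Base) {ξ : M} (hξ : ξ ∈ F.carrier) :
    b ∈ F.cham ↔ ξ ∈ closedChamber b := by
  refine ⟨fun h => h hξ, fun h η hη k hk => ?_⟩
  have h1 := h k hk
  rw [← sgnVec_ne_neg_one_iff] at h1 ⊢
  rw [show sgnVec P η = F.sgn from hη]
  rwa [show sgnVec P ξ = F.sgn from hξ] at h1

lemma mem_cham_iff (F : Facet P) (b : P.Base) : b ∈ F.cham ↔ ∀ k ∈ b.support, F.sgn k ≠ -1 := by
  obtain ⟨ξ, hξ⟩ := Facet.carrier_nonempty F
  rw [mem_cham_iff_of_mem F b hξ, ← show sgnVec P ξ = F.sgn from hξ]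
  exact forall₂_congr fun k _ => (sgnVec_ne_neg_one_iff ξ k).symm

lemma mem_cham_iff_isPos (F : Facet P) (b : P.Base) :
    b ∈ F.cham ↔ ∀ i, b.IsPos i → F.sgn i ≠ -1 := by
  obtain ⟨ξ, hξ⟩ := Facet.carrier_nonempty F
  rw [mem_cham_iff_of_mem F b hξ, ← show sgnVec P ξ = F.sgn from hξ, mem_closedChamber_iff]
  exact forall₂_congr fun k _ => (sgnVec_ne_neg_one_iff ξ k).symm

lemma carrier_subset_closedChamber {F : Facet P} {b : P.Base} (hb : b ∈ F.cham) :
    F.carrier ⊆ closedChamber b := hb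

lemma closure_subset_closedChamber {F : Facet P} {b : P.Base} (hb : b ∈ F.cham) :
    F.closure ⊆ closedChamber b := by
  intro ξ hξ k hk
  rw [← sgnVec_ne_neg_one_iff]
  rcases hξ k with h | h
  · rw [h]; decide
  · rw [h]; exact (mem_cham_iff F b).1 hb k hk

/-- sign zero on a positive root only depends on the zero signs on simple roots. -/
lemma coroot'_eq_zero_of_forall {b : P.Base} {ξ η : M} (hξ : ξ ∈ closedChamber b)
    (hη : η ∈ closedChamber b) (h : ∀ k ∈ b.support, P.coroot' k ξ = 0 → P.coroot' k η = 0)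
    {i : ι} (hi : P.coroot' i ξ = 0) : P.coroot' i η = 0 := by
  by_cases hpos : b.IsPos i
  · rw [coroot'_eq_zero_iff b hη hpos]
    rw [coroot'_eq_zero_iff b hξ hpos] at hi
    exact fun k => (hi k).imp_left (h k k.2)
  · rw [← isPos_neg_index] at hpos
    have hi' : P.coroot' (P.reflectionPerm i i) ξ = 0 := by rw [coroot'_neg_index, hi, neg_zero]
    have : P.coroot' (P.reflectionPerm i i) η = 0 := by
      rw [coroot'_eq_zero_iff b hη hpos]
      rw [coroot'_eq_zero_iff b hξ hpos] at hi'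
      exact fun k => (hi' k).imp_left (h k k.2)
    rwa [coroot'_neg_index, neg_eq_zero] at this

/-- If two dominant vectors satisfy: zeroes of the first are zeroes of the second on simple
coroots, then the second is in the closure of the facet of the first. -/
lemma sgnVec_zero_or_eq {b : P.Base} {ξ η : M} (hξ : ξ ∈ closedChamber b)
    (hη : η ∈ closedChamber b) (h : ∀ k ∈ b.support, P.coroot' k ξ = 0 → P.coroot' k η = 0)
    (i : ι) : sgnVec P η i = 0 ∨ sgnVec P η i = sgnVec P ξ i := by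
  by_cases hi : P.coroot' i ξ = 0
  · left
    rw [sgnVec_eq_zero_iff]
    exact coroot'_eq_zero_of_forall hξ hη h hi
  · by_cases hi' : P.coroot' i η = 0
    · left
      rwa [sgnVec_eq_zero_iff]
    · right
      by_cases hpos : b.IsPos i
      · have h1 := (mem_closedChamber_iff b ξ).1 hξ i hpos
        have h2 := (mem_closedChamber_iff b η).1 hη i hpos
        rw [(sgnVec_eq_one_iff η i).2 (lt_of_le_of_ne h2 (Ne.symm hi')),
          (sgnVec_eq_one_iff ξ i).2 (lt_of_le_of_ne h1 (Ne.symm hi))]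
      · rw [← isPos_neg_index] at hpos
        have h1 := (mem_closedChamber_iff b ξ).1 hξ _ hpos
        have h2 := (mem_closedChamber_iff b η).1 hη _ hpos
        rw [coroot'_neg_index] at h1 h2
        rw [sgnVec, sgnVec, sign_neg (lt_of_le_of_ne (by linarith) hi),
          sign_neg (lt_of_le_of_ne (by linarith) hi')]

lemma mem_closure_iff {F : Facet P} {b : P.Base} (hb : b ∈ F.cham) (ξ : M) :
    ξ ∈ F.closure ↔ ∀ k ∈ b.support, sgnVec P ξ k = 0 ∨ sgnVec P ξ k = F.sgn k := by
  refine ⟨fun h k _ => h k, fun h => ?_⟩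
  obtain ⟨η, hη⟩ := Facet.carrier_nonempty F
  have hη' : sgnVec P η = F.sgn := hη
  have hξc : ξ ∈ closedChamber b := by
    intro k hk
    rw [← sgnVec_ne_neg_one_iff]
    rcases h k hk with h1 | h1
    · rw [h1]; decide
    · rw [h1]; exact (mem_cham_iff F b).1 hb k hk
  intro i
  rw [← hη']
  refine sgnVec_zero_or_eq (hb hη) hξc (fun k hk hk0 => ?_) i
  rw [← sgnVec_eq_zero_iff] at hk0 ⊢
  rcases h k hk with h1 | h1
  · exact h1
  · rw [h1, ← hη', hk0]

lemma mem_carrier_iff {F : Facet P} {b : P.Base} (hb : b ∈ F.cham) (ξ : M) :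
    ξ ∈ F.carrier ↔ ∀ k ∈ b.support, sgnVec P ξ k = F.sgn k := by
  refine ⟨fun h k _ => congrFun h k, fun h => ?_⟩
  obtain ⟨η, hη⟩ := Facet.carrier_nonempty F
  have hη' : sgnVec P η = F.sgn := hη
  have h1 : ξ ∈ F.closure := (mem_closure_iff hb ξ).2 fun k hk => Or.inr (h k hk)
  have hξc := closure_subset_closedChamber hb h1
  funext i
  rcases h1 i with h2 | h2
  · rw [h2]
    symm
    rw [← hη', sgnVec_eq_zero_iff]
    rw [sgnVec_eq_zero_iff] at h2
    refine coroot'_eq_zero_of_forall hξc (hb hη) (fun k hk hk0 => ?_) h2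
    rw [← sgnVec_eq_zero_iff] at hk0 ⊢
    rw [hη', ← h k hk, hk0]
  · exact h2

lemma facet_ext_of_cham {F G : Facet P} {b : P.Base} (_hF : b ∈ F.cham) (hG : b ∈ G.cham)
    (h : ∀ k ∈ b.support, F.sgn k = G.sgn k) : F = G := by
  obtain ⟨ξ, hξ⟩ := Facet.carrier_nonempty F
  have h1 : sgnVec P ξ = F.sgn := hξ
  have h2 : ξ ∈ G.carrier := (mem_carrier_iff hG ξ).2 fun k hk => by rw [h1, h k hk]
  have h3 : sgnVec P ξ = G.sgn := h2
  exact Facet.ext (h1.symm.trans h3)

lemma facet_ext_of_mem {F G : Facet P} {ξ : M} (h : ξ ∈ F.carrier) (h' : ξ ∈ G.carrier) : F = G :=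
  Facet.ext ((show sgnVec P ξ = F.sgn from h).symm.trans h')

lemma mem_ofVec (ξ : M) : ξ ∈ (Facet.ofVec P ξ).carrier := rfl

/-- The facet of the chamber of `b` with set of simple non-zero directions `I`. -/
def facetOf (b : P.Base) (I : Finset b.support) : Facet P :=
  Facet.ofVec P (∑ k ∈ I, fundWeight b k)

lemma coroot'_sum_fundWeight (b : P.Base) (I : Finset b.support) (c : b.support → R)
    (k : b.support) [Decidable (k ∈ I)] :
    P.coroot' k (∑ l ∈ I, c l • fundWeight b l) = if k ∈ I then c k else 0 := by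
  classical
  rw [map_sum]
  simp only [map_smul, coroot'_fundWeight, smul_eq_mul, mul_ite, mul_one, mul_zero]
  have : ∀ l : b.support, ((k : ι) = (l : ι)) = (k = l) := fun l => by rw [Subtype.ext_iff]
  simp only [Finset.sum_ite_eq]
  congr

lemma facetOf_sgn (b : P.Base) (I : Finset b.support) (k : b.support) [Decidable (k ∈ I)] :
    (facetOf b I).sgn k = if k ∈ I then 1 else 0 := by
  have h := coroot'_sum_fundWeight b I (fun _ => 1) k
  simp only [one_smul] at h
  change SignType.sign (P.coroot' k (∑ l ∈ I, fundWeight b l)) = _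
  rw [h]
  split_ifs <;> simp

lemma mem_cham_facetOf (b : P.Base) (I : Finset b.support) : b ∈ (facetOf b I).cham := by
  classical
  rw [mem_cham_iff]
  intro k hk
  rw [facetOf_sgn b I ⟨k, hk⟩]
  split_ifs <;> decide

lemma eq_facetOf {F : Facet P} {b : P.Base} (hb : b ∈ F.cham) :
    F = facetOf b (Finset.univ.filter fun k : b.support => F.sgn k ≠ 0) := by
  classical
  apply facet_ext_of_cham hb (mem_cham_facetOf _ _)
  intro k hk
  rw [facetOf_sgn b _ ⟨k, hk⟩]
  simp only [Finset.mem_filter, Finset.mem_univ, true_and]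
  split_ifs with h
  · exact (signType_zero_or_one ((mem_cham_iff F b).1 hb k hk)).resolve_left h
  · simpa using h

section
variable [P.IsCrystallographic] [P.IsReduced]

lemma exists_mem_cham (F : Facet P) : ∃ b : P.Base, b ∈ F.cham := by
  obtain ⟨ξ, hξ⟩ := Facet.carrier_nonempty F
  obtain ⟨b, hb⟩ := exists_mem_closedChamber (P := P) ξ
  exact ⟨b, (mem_cham_iff_of_mem F b hξ).2 hb⟩

end

end K816.Chambers
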