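import Groth.Agent.RootCh.K816.Corners

/-!
# Facets and positive combinations of corners
-/

set_option autoImplicit false
set_option linter.unusedSectionVars false
set_option linter.style.haveILetI false

noncomputable section

open Module RootCh K816.Basics K816.Chambers K816.Corners

namespace K816.Combos

universe u v w x

variable {ι : Type u} {R : Type v} {M : Type w} {N : Type x}
    [Field R] [LinearOrder R] [IsStrictOrderedRing R]
    [AddCommGroup M] [Module R M] [AddCommGroup N] [Module R N] [Finite ι]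

variable {P : RootPairing ι R M N} [P.IsRootSystem]

lemma sgn_eq_zero_iff_of_mem {F : Facet P} {ξ : M} (hξ : ξ ∈ F.carrier) (i : ι) :
    F.sgn i = 0 ↔ P.coroot' i ξ = 0 := by
  rw [← show sgnVec P ξ = F.sgn from hξ, sgnVec_eq_zero_iff]

lemma sgn_ne_neg_one_iff_of_mem {F : Facet P} {ξ : M} (hξ : ξ ∈ F.carrier) (i : ι) :
    F.sgn i ≠ -1 ↔ 0 ≤ P.coroot' i ξ := by
  rw [← show sgnVec P ξ = F.sgn from hξ, sgnVec_ne_neg_one_iff]

lemma sgn_eq_one_iff_of_mem {F : Facet P} {ξ : M} (hξ : ξ ∈ F.carrier) (i : ι) :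
    F.sgn i = 1 ↔ 0 < P.coroot' i ξ := by
  rw [← show sgnVec P ξ = F.sgn from hξ, sgnVec_eq_one_iff]

/-- membership in a facet in terms of coordinates in the fundamental weights. -/
lemma mem_carrier_iff_coroot' {F : Facet P} {b : P.Base} (hb : b ∈ F.cham) (ξ : M) :
    ξ ∈ F.carrier ↔ ∀ k : b.support, (F.sgn k = 0 → P.coroot' k ξ = 0) ∧
      (F.sgn k ≠ 0 → 0 < P.coroot' k ξ) := by
  rw [mem_carrier_iff hb]
  constructor
  · intro h k
    have hk := h k k.2
    refine ⟨fun h0 => ?_, fun h0 => ?_⟩
    · rw [h0, sgnVec_eq_zero_iff] at hk; exact hk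
    · rw [(signType_zero_or_one ((mem_cham_iff F b).1 hb k k.2)).resolve_left h0,
        sgnVec_eq_one_iff] at hk
      exact hk
  · intro h k hk
    rcases signType_zero_or_one ((mem_cham_iff F b).1 hb k hk) with h0 | h0
    · rw [h0, sgnVec_eq_zero_iff]; exact (h ⟨k, hk⟩).1 h0
    · rw [h0, sgnVec_eq_one_iff]; exact (h ⟨k, hk⟩).2 (by rw [h0]; decide)

lemma mem_span_corners_of_mem_closure {F : Facet P} {b : P.Base} (hb : b ∈ F.cham) {ξ : M}
    (hξ : ∀ k ∈ b.support, F.sgn k = 0 → P.coroot' k ξ = 0) :
    ξ ∈ Submodule.span R F.corners := by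
  rw [← sum_fundWeight b ξ]
  refine Submodule.sum_mem _ fun k _ => ?_
  by_cases h0 : F.sgn k = 0
  · rw [hξ k k.2 h0, zero_smul]; exact Submodule.zero_mem _
  · exact Submodule.smul_mem _ _ (Submodule.subset_span ((fundWeight_mem_corners_iff hb k).2 h0))

lemma mem_span_corners_iff {F : Facet P} {b : P.Base} (hb : b ∈ F.cham) (ξ : M) :
    ξ ∈ Submodule.span R F.corners ↔ ∀ k ∈ b.support, F.sgn k = 0 → P.coroot' k ξ = 0 := by
  refine ⟨fun h k hk h0 => ?_, mem_span_corners_of_mem_closure hb⟩
  induction h using Submodule.span_induction with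
  | mem x hx =>
    rw [corners_eq hb] at hx
    obtain ⟨l, hl, rfl⟩ := hx
    apply coroot'_fundWeight_of_ne b l ⟨k, hk⟩
    rintro rfl
    exact hl h0
  | zero => simp
  | add x y _ _ hx hy => rw [map_add, hx, hy, add_zero]
  | smul a x _ hx => rw [map_smul, hx, smul_zero]

lemma span_carrier_eq [P.IsCrystallographic] [P.IsReduced] (F : Facet P) :
    Submodule.span R F.carrier = Submodule.span R F.corners := by
  obtain ⟨b, hb⟩ := exists_mem_cham F
  apply le_antisymm
  · rw [Submodule.span_le]
    intro ξ hξ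
    exact (mem_span_corners_iff hb ξ).2 fun k _ h0 => (sgn_eq_zero_iff_of_mem hξ k).1 h0
  · rw [Submodule.span_le, corners_eq hb]
    rintro m ⟨k, hk, rfl⟩
    obtain ⟨ξ, hξ⟩ := Facet.carrier_nonempty F
    have h1 : ξ + fundWeight b k ∈ F.carrier := by
      rw [mem_carrier_iff_coroot' hb] at hξ ⊢
      intro l
      rw [map_add]
      refine ⟨fun h0 => ?_, fun h0 => ?_⟩
      · rw [(hξ l).1 h0, zero_add]
        apply coroot'_fundWeight_of_ne b k l
        rintro rfl
        exact hk h0
      · exact add_pos_of_pos_of_nonneg ((hξ l).2 h0) (fundWeight_mem_closedChamber b k l l.2)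
    have h2 : fundWeight b k = (ξ + fundWeight b k) - ξ := by abel
    rw [h2]
    exact Submodule.sub_mem _ (Submodule.subset_span h1) (Submodule.subset_span hξ)

lemma finsupp_sum_eq (b : P.Base) (c : M →₀ R)
    (hc : (c.support : Set M) ⊆ Set.range (fundWeight b)) :
    c.sum (fun m r => r • m) = ∑ k : b.support, c (fundWeight b k) • fundWeight b k := by
  classical
  rw [Finsupp.sum_of_support_subset c (s := Finset.univ.image (fundWeight b))]
  · rw [Finset.sum_image]
    intro x _ y _ h
    exact fundWeight_injective b h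
  · intro m hm
    obtain ⟨k, rfl⟩ := hc hm
    exact Finset.mem_image_of_mem _ (Finset.mem_univ _)
  · intro i _; exact zero_smul R i

lemma carrier_eq [P.IsCrystallographic] [P.IsReduced] (F : Facet P) :
    F.carrier = {ξ : M | ∃ c : M →₀ R, (c.support : Set M) ⊆ F.corners ∧
      (∀ m ∈ F.corners, 0 < c m) ∧ c.sum (fun m r => r • m) = ξ} := by
  classical
  obtain ⟨b, hb⟩ := exists_mem_cham F
  have hsub : F.corners ⊆ Set.range (fundWeight b) := by
    rw [← baseCorners_eq]; exact corners_subset_baseCorners hb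
  ext ξ
  constructor
  · intro hξ
    rw [mem_carrier_iff_coroot' hb] at hξ
    let c : M →₀ R := Finsupp.embDomain ⟨fundWeight b, fundWeight_injective b⟩
      (Finsupp.equivFunOnFinite.symm (fun k : b.support => P.coroot' k ξ))
    have hc : ∀ k : b.support, c (fundWeight b k) = P.coroot' k ξ := by
      intro k
      exact Finsupp.embDomain_apply_self _ _ k
    have hsupp : (c.support : Set M) ⊆ F.corners := by
      intro m hm
      have h1 : c m ≠ 0 := by simpa using hm
      have h2 : m ∈ Set.range (fundWeight b) := by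
        by_contra hn
        exact h1 (Finsupp.embDomain_notin_range _ _ _ hn)
      obtain ⟨k, rfl⟩ := h2
      rw [fundWeight_mem_corners_iff hb]
      intro h0
      rw [hc] at h1
      exact h1 ((hξ k).1 h0)
    refine ⟨c, hsupp, ?_, ?_⟩
    · intro m hm
      rw [corners_eq hb] at hm
      obtain ⟨k, hk, rfl⟩ := hm
      rw [hc]
      exact (hξ k).2 hk
    · rw [finsupp_sum_eq b c (hsupp.trans hsub)]
      simp_rw [hc]
      exact sum_fundWeight b ξ
  · rintro ⟨c, hsupp, hpos, rfl⟩
    rw [finsupp_sum_eq b c (hsupp.trans hsub), mem_carrier_iff_coroot' hb]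
    intro k
    have h1 : P.coroot' k (∑ l : b.support, c (fundWeight b l) • fundWeight b l) =
        c (fundWeight b k) := by
      rw [coroot'_sum_fundWeight b Finset.univ (fun l => c (fundWeight b l)) k,
        if_pos (Finset.mem_univ k)]
    rw [h1]
    refine ⟨fun h0 => ?_, fun h0 => hpos _ ((fundWeight_mem_corners_iff hb k).2 h0)⟩
    by_contra hne
    have : fundWeight b k ∈ F.corners := hsupp (by simpa using hne)
    rw [fundWeight_mem_corners_iff hb] at this
    exact this h0

lemma facet_ext_corners [P.IsCrystallographic] [P.IsReduced] {F G : Facet P}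
    (h : F.corners = G.corners) : F = G := by
  obtain ⟨ξ, hξ⟩ := Facet.carrier_nonempty F
  have h1 : F.carrier = G.carrier := by rw [carrier_eq F, carrier_eq G, h]
  exact facet_ext_of_mem hξ (h1 ▸ hξ)

lemma dualCorners_eq_corr [P.IsCrystallographic] [P.IsReduced] (F : Facet P) :
    F.dualCorners = {y : N | ∃ m ∈ F.corners, RootCh.Corr P m y} := by
  obtain ⟨b, hb⟩ := exists_mem_cham F
  rw [dualCorners_eq hb]
  ext y
  constructor
  · rintro ⟨k, hk, rfl⟩
    exact ⟨fundWeight b k, (fundWeight_mem_corners_iff hb k).2 hk, corr_fundWeight b k⟩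
  · rintro ⟨m, hm, hy⟩
    rw [corners_eq hb] at hm
    obtain ⟨k, hk, rfl⟩ := hm
    exact ⟨k, hk, ((corr_fundWeight_iff b k y).1 hy).symm⟩

lemma corners_eq_nonneg_on_parab (F : Facet P) :
    F.corners = {m : M | m ∈ RootCh.fundWeights P ∧
      ∀ y : N, RootCh.Corr P m y → ∀ i ∈ F.parab, 0 ≤ P.root' i y} := by
  ext m
  constructor
  · rintro ⟨hm, hcl⟩
    refine ⟨hm, fun y hy i hi => ?_⟩
    rw [← mem_dualClosure_of_corr hy] at hcl
    rw [← cosgnVec_ne_neg_one_iff]
    rcases hcl i with h | h
    · rw [h]; decide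
    · rw [h]; exact hi
  · rintro ⟨⟨b, k, rfl⟩, h⟩
    refine ⟨⟨b, k, rfl⟩, ?_⟩
    have hy := corr_fundWeight b k
    rw [← mem_dualClosure_of_corr hy]
    have h1 := h _ hy
    intro i
    rcases signType_cases (F.sgn i) with h0 | h0 | h0
    · left
      have h2 := h1 i (show F.sgn i ≠ -1 by rw [h0]; decide)
      have h3 := h1 (P.reflectionPerm i i)
        (show F.sgn (P.reflectionPerm i i) ≠ -1 by rw [facet_sgn_neg_index, h0]; decide)
      rw [root'_neg_index] at h3
      have h4 : P.root' i (fundCoweight b k) = 0 := by linarith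
      rw [cosgnVec, h4, sign_zero]
    · have h2 := h1 i (show F.sgn i ≠ -1 by rw [h0]; decide)
      rw [h0]
      rw [← cosgnVec_ne_neg_one_iff] at h2
      exact signType_zero_or_one h2
    · have h2 := h1 (P.reflectionPerm i i)
        (show F.sgn (P.reflectionPerm i i) ≠ -1 by rw [facet_sgn_neg_index, h0]; decide)
      rw [root'_neg_index] at h2
      rw [h0]
      rcases h2.eq_or_lt with h3 | h3
      · left
        have : P.root' i (fundCoweight b k) = 0 := by linarith
        rw [cosgnVec, this, sign_zero]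
      · right
        rw [cosgnVec, sign_neg (by linarith)]

end K816.Combos
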