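import Groth.Agent.RootCh.K816.Chambers

/-!
# Corners of chambers and facets
-/

set_option autoImplicit false
set_option linter.unusedSectionVars false
set_option linter.style.haveILetI false

noncomputable section

open Module RootCh K816.Basics K816.Chambers

namespace K816.Corners

universe u v w x

variable {ι : Type u} {R : Type v} {M : Type w} {N : Type x}
    [Field R] [LinearOrder R] [IsStrictOrderedRing R]
    [AddCommGroup M] [Module R M] [AddCommGroup N] [Module R N] [Finite ι]

variable {P : RootPairing ι R M N} [P.IsRootSystem]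

lemma fundWeight_ne_zero (b : P.Base) (k : b.support) : fundWeight b k ≠ 0 := by
  intro h
  have := coroot'_fundWeight_self b k
  rw [h, map_zero] at this
  exact zero_ne_one this

lemma fundWeight_injective (b : P.Base) : Function.Injective (fundWeight b) := by
  intro k l h
  by_contra hkl
  have h1 := coroot'_fundWeight_self b k
  rw [h, coroot'_fundWeight_of_ne b l k hkl] at h1
  exact zero_ne_one h1

lemma fundWeight_linearIndependent (b : P.Base) : LinearIndependent R (fundWeight b) := by
  classical
  rw [Fintype.linearIndependent_iff]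
  intro g hg k
  have := coroot'_sum_fundWeight b Finset.univ g k
  rw [hg, map_zero, if_pos (Finset.mem_univ k)] at this
  exact this.symm

/-- The key step: a fundamental weight lying in a closed chamber is a fundamental weight of this
chamber. -/
lemma baseCorners_eq (b : P.Base) : baseCorners b = Set.range (fundWeight b) := by
  apply Set.Subset.antisymm
  · rintro w ⟨⟨b', i, rfl⟩, hw⟩
    -- some simple coroot of `b` is positive on `w`
    obtain ⟨k, hk⟩ : ∃ k : b.support, P.coroot' k (fundWeight b' i) ≠ 0 := by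
      by_contra hcon
      push Not at hcon
      apply fundWeight_ne_zero b' i
      apply ext_coroot' b
      intro k hk
      rw [hcon ⟨k, hk⟩, map_zero]
    refine ⟨k, ?_⟩
    have hv := fundWeight_mem_closedChamber b k
    -- zeroes of `w` are zeroes of `v = fundWeight b k`
    have hzero : ∀ j : ι, P.coroot' j (fundWeight b' i) = 0 → P.coroot' j (fundWeight b k) = 0 := by
      intro j hj
      refine coroot'_eq_zero_of_forall hw hv (fun l hl hl0 => ?_) hj
      by_cases hlk : (⟨l, hl⟩ : b.support) = k
      · subst hlk; exact absurd hl0 hk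
      · exact coroot'_fundWeight_of_ne b k ⟨l, hl⟩ hlk
    -- so `v = t • w`
    obtain ⟨t, ht⟩ : ∃ t : ℤ, P.coroot' i (fundWeight b k) = t := exists_int_coroot'_fundWeight b i k
    have hvw : fundWeight b k = (t : R) • fundWeight b' i := by
      apply ext_coroot' b'
      intro l hl
      rw [map_smul, smul_eq_mul]
      by_cases hli : (⟨l, hl⟩ : b'.support) = i
      · subst hli
        rw [coroot'_fundWeight_self b' ⟨l, hl⟩, mul_one]; exact ht
      · rw [coroot'_fundWeight_of_ne b' i ⟨l, hl⟩ hli, mul_zero]
        exact hzero l (coroot'_fundWeight_of_ne b' i ⟨l, hl⟩ hli)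
    obtain ⟨c, hc⟩ : ∃ c : ℤ, P.coroot' k (fundWeight b' i) = c :=
      exists_int_coroot'_fundWeight b' k i
    have h1 : (t : R) * c = 1 := by
      have := coroot'_fundWeight_self b k
      rw [hvw, map_smul, smul_eq_mul, hc] at this
      exact this
    have h2 : t * c = 1 := by exact_mod_cast h1
    have h3 : 0 < c := by
      have h4 : 0 ≤ P.coroot' k (fundWeight b' i) := hw k k.2
      have h5 : 0 < P.coroot' k (fundWeight b' i) := lt_of_le_of_ne h4 (Ne.symm hk)
      rw [hc] at h5
      exact_mod_cast h5
    have h4 : t = 1 := by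
      rcases Int.mul_eq_one_iff_eq_one_or_neg_one.1 h2 with ⟨h, -⟩ | ⟨-, h⟩
      · exact h
      · omega
    rw [hvw, h4, Int.cast_one, one_smul]
  · rintro w ⟨k, rfl⟩
    exact ⟨fundWeight_mem_fundWeights b k, fundWeight_mem_closedChamber b k⟩

lemma fundWeight_mem_baseCorners (b : P.Base) (k : b.support) : fundWeight b k ∈ baseCorners b := by
  rw [baseCorners_eq]; exact ⟨k, rfl⟩

lemma corners_subset_baseCorners {F : Facet P} {b : P.Base} (hb : b ∈ F.cham) :
    F.corners ⊆ baseCorners b :=
  fun _ hm => ⟨hm.1, closure_subset_closedChamber hb hm.2⟩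

lemma sgnVec_fundWeight_simple (b : P.Base) (k l : b.support) [Decidable (l = k)] :
    sgnVec P (fundWeight b k) l = if l = k then 1 else 0 := by
  split_ifs with h
  · subst h
    rw [sgnVec, coroot'_fundWeight_self, sign_one]
  · rw [sgnVec, coroot'_fundWeight_of_ne b k l h, sign_zero]

lemma fundWeight_mem_closure_iff {F : Facet P} {b : P.Base} (hb : b ∈ F.cham) (k : b.support) :
    fundWeight b k ∈ F.closure ↔ F.sgn k ≠ 0 := by
  classical
  rw [mem_closure_iff hb]
  constructor
  · intro h h0
    have := h k k.2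
    rw [sgnVec_fundWeight_simple b k k, if_pos rfl, h0] at this
    simp at this
  · intro h l hl
    have h1 := sgnVec_fundWeight_simple b k ⟨l, hl⟩
    simp only at h1
    rw [h1]
    split_ifs with h2
    · subst h2
      right
      exact ((signType_zero_or_one ((mem_cham_iff F b).1 hb l hl)).resolve_left h).symm
    · left; rfl

lemma corners_eq {F : Facet P} {b : P.Base} (hb : b ∈ F.cham) :
    F.corners = {m | ∃ k : b.support, F.sgn k ≠ 0 ∧ fundWeight b k = m} := by
  ext m
  constructor
  · intro hm
    have h1 := corners_subset_baseCorners hb hm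
    rw [baseCorners_eq] at h1
    obtain ⟨k, rfl⟩ := h1
    exact ⟨k, (fundWeight_mem_closure_iff hb k).1 hm.2, rfl⟩
  · rintro ⟨k, hk, rfl⟩
    exact ⟨fundWeight_mem_fundWeights b k, (fundWeight_mem_closure_iff hb k).2 hk⟩

lemma fundWeight_mem_corners_iff {F : Facet P} {b : P.Base} (hb : b ∈ F.cham) (k : b.support) :
    fundWeight b k ∈ F.corners ↔ F.sgn k ≠ 0 := by
  rw [← fundWeight_mem_closure_iff hb]
  exact ⟨fun h => h.2, fun h => ⟨fundWeight_mem_fundWeights b k, h⟩⟩

lemma corners_eq_image {F : Facet P} {b : P.Base} (hb : b ∈ F.cham) :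
    F.corners = fundWeight b '' {k | F.sgn k ≠ 0} := by
  rw [corners_eq hb]; rfl

lemma corners_facetOf (b : P.Base) (I : Finset b.support) :
    (facetOf b I).corners = fundWeight b '' (I : Set b.support) := by
  classical
  rw [corners_eq_image (mem_cham_facetOf b I)]
  congr 1
  ext k
  simp only [Set.mem_ofPred_eq, facetOf_sgn b I k, Finset.mem_coe]
  split_ifs with h <;> simp [h]

lemma mem_corners'_iff (F : Facet P) (m : M) :
    m ∈ F.corners' ↔ ∃ b ∈ F.cham, ∃ k : b.support, fundWeight b k = m := by
  simp only [Facet.corners', Set.mem_iUnion, baseCorners_eq, Set.mem_range, exists_prop]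

/-! ### Duality -/

/-- The facet of the dual root system with the same sign vector. -/
def flipFacet (F : Facet P) : Facet P.flip where
  sgn := F.sgn
  exists_sgnVec_eq := by
    obtain ⟨ξ, hξ⟩ := F.exists_sgnVec_eq
    exact ⟨pol P ξ, (cosgnVec_pol ξ).trans hξ⟩

lemma flipFacet_carrier (F : Facet P) : (flipFacet F).carrier = F.dualCarrier := rfl

lemma flipFacet_closure (F : Facet P) : (flipFacet F).closure = F.dualClosure := rfl

lemma flipFacet_corners (F : Facet P) : (flipFacet F).corners = F.dualCorners := rfl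

lemma flipFacet_sgn (F : Facet P) : (flipFacet F).sgn = F.sgn := rfl

lemma mem_flipFacet_cham {F : Facet P} {b : P.Base} (hb : b ∈ F.cham) :
    b.flip ∈ (flipFacet F).cham := by
  rw [mem_cham_iff] at hb ⊢
  exact hb

lemma pol_mem_dualCarrier {F : Facet P} {ξ : M} (hξ : ξ ∈ F.carrier) : pol P ξ ∈ F.dualCarrier :=
  (cosgnVec_pol ξ).trans hξ

lemma dualCarrier_nonempty (F : Facet P) : F.dualCarrier.Nonempty := (flipFacet F).exists_sgnVec_eq

lemma dualCorners_eq {F : Facet P} {b : P.Base} (hb : b ∈ F.cham) :
    F.dualCorners = {y | ∃ k : b.support, F.sgn k ≠ 0 ∧ fundCoweight b k = y} :=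
  corners_eq (P := P.flip) (mem_flipFacet_cham hb)

lemma mem_dualClosure_of_corr {F : Facet P} {m : M} {y : N} (h : Corr P m y) :
    y ∈ F.dualClosure ↔ m ∈ F.closure := by
  change (∀ i, cosgnVec P y i = 0 ∨ cosgnVec P y i = F.sgn i) ↔
    ∀ i, sgnVec P m i = 0 ∨ sgnVec P m i = F.sgn i
  rw [Corr.cosgnVec_eq h]

lemma Corr.mem_fundWeights {m : M} {y : N} (h : Corr P m y) : m ∈ fundWeights P := by
  obtain ⟨b, k, rfl, -⟩ := h
  exact ⟨b, k, rfl⟩

lemma Corr.mem_fundCoweights {m : M} {y : N} (h : Corr P m y) : y ∈ fundCoweights P := by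
  obtain ⟨b, k, -, rfl⟩ := h
  exact ⟨b.flip, k, rfl⟩

lemma corr_fundWeight (b : P.Base) (k : b.support) : Corr P (fundWeight b k) (fundCoweight b k) :=
  ⟨b, k, rfl, rfl⟩

/-- The unique coweight corresponding to `fundWeight b k` is `fundCoweight b k`. -/
lemma corr_fundWeight_iff (b : P.Base) (k : b.support) (y : N) :
    Corr P (fundWeight b k) y ↔ y = fundCoweight b k := by
  classical
  refine ⟨fun h => ?_, fun h => h ▸ corr_fundWeight b k⟩
  have h1 : y ∈ closedChamber b.flip := by
    intro l hl
    have h2 := fundWeight_mem_closedChamber b k l hl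
    rw [← sgnVec_ne_neg_one_iff] at h2
    rw [← Corr.cosgnVec_eq h] at h2
    exact (cosgnVec_ne_neg_one_iff y l).1 h2
  have h2 : y ∈ baseCorners b.flip := ⟨Corr.mem_fundCoweights h, h1⟩
  rw [baseCorners_eq] at h2
  obtain ⟨l, rfl⟩ := h2
  by_contra hne
  have hlk : k ≠ l := by
    rintro rfl; exact hne rfl
  have h3 := congrFun (Corr.cosgnVec_eq h) k
  rw [sgnVec_fundWeight_simple b k k, if_pos rfl] at h3
  have h4 : cosgnVec P (fundWeight b.flip l) k = 0 := by
    have := root'_fundCoweight_of_ne b l k hlk
    exact (congrArg SignType.sign this).trans sign_zero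
  rw [h4] at h3
  exact zero_ne_one h3

lemma corr_functional {m : M} {y z : N} (h : Corr P m y) (h' : Corr P m z) : y = z := by
  obtain ⟨b, k, rfl, rfl⟩ := h
  exact ((corr_fundWeight_iff b k z).1 h').symm

lemma corr_symm {m : M} {y : N} (h : Corr P m y) : Corr P.flip y m := by
  obtain ⟨b, k, rfl, rfl⟩ := h
  exact ⟨b.flip, k, rfl, rfl⟩

lemma corr_injective {m m' : M} {y : N} (h : Corr P m y) (h' : Corr P m' y) : m = m' :=
  corr_functional (P := P.flip) (corr_symm h) (corr_symm h')

end K816.Corners
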