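import Mathlib.Analysis.Convex.Hull
import Mathlib.Analysis.Convex.Combination
import Mathlib.LinearAlgebra.Dual.Lemmas

/-!
# Farkas' lemma over a linearly ordered field (Bartl's proof), convex hulls of finite sets
-/

set_option autoImplicit false
set_option linter.unusedSectionVars false

open Module

namespace K816.Farkas

universe u v w x

/-- Farkas' lemma over an ordered field: if `γ ≤ 0` whenever all `α i ≤ 0` then `γ` is a
non-negative combination of the `α i`. -/
theorem farkas {R : Type*} [Field R] [LinearOrder R] [IsStrictOrderedRing R]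
    {V : Type*} [AddCommGroup V] [Module R V] {κ : Type*} (s : Finset κ) :
    ∀ (α : κ → Dual R V) (γ : Dual R V), (∀ x, (∀ i ∈ s, α i x ≤ 0) → γ x ≤ 0) →
      ∃ u : κ → R, (∀ i, 0 ≤ u i) ∧ γ = ∑ i ∈ s, u i • α i := by
  classical
  induction s using Finset.induction_on with
  | empty =>
    intro α γ h
    refine ⟨fun _ => 0, fun _ => le_rfl, ?_⟩
    ext x
    have h1 := h x (by simp)
    have h2 := h (-x) (by simp)
    rw [map_neg] at h2
    simp
    linarith
  | insert a s ha ih =>
    intro α γ H
    by_cases hA : ∀ x, (∀ i ∈ s, α i x ≤ 0) → γ x ≤ 0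
    · obtain ⟨u, hu, hγ⟩ := ih α γ hA
      refine ⟨fun i => if i = a then 0 else u i, fun i => ?_, ?_⟩
      · dsimp only; split_ifs <;> simp [hu]
      · rw [Finset.sum_insert ha]
        dsimp only
        rw [if_pos rfl, zero_smul, zero_add, hγ]
        refine Finset.sum_congr rfl fun i hi => ?_
        rw [if_neg]
        rintro rfl
        exact ha hi
    · push Not at hA
      obtain ⟨z, hz, hγz⟩ := hA
      have ht : 0 < α a z := by
        by_contra hn
        rw [not_lt] at hn
        have := H z (by
          intro i hi
          rcases Finset.mem_insert.1 hi with rfl | hi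
          · exact hn
          · exact hz i hi)
        exact absurd hγz (not_lt.2 this)
      set t := α a z with htdef
      obtain ⟨u, hu, hγ'⟩ := ih (fun i => α i - (t⁻¹ * α i z) • α a) (γ - (t⁻¹ * γ z) • α a) (by
        intro x hx
        have h1 := H (x - (t⁻¹ * α a x) • z) (by
          intro i hi
          rcases Finset.mem_insert.1 hi with rfl | hi
          · rw [map_sub, map_smul, smul_eq_mul, ← htdef, mul_right_comm, inv_mul_cancel₀ ht.ne',
              one_mul, sub_self]
          · have := hx i hi
            simp only [LinearMap.sub_apply, LinearMap.smul_apply, smul_eq_mul] at this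
            rw [map_sub, map_smul, smul_eq_mul]
            linarith)
        rw [map_sub, map_smul, smul_eq_mul] at h1
        simp only [LinearMap.sub_apply, LinearMap.smul_apply, smul_eq_mul]
        linarith)
      refine ⟨fun i => if i = a then t⁻¹ * (γ z - ∑ i ∈ s, u i * α i z) else u i, fun i => ?_, ?_⟩
      · dsimp only
        split_ifs with h
        · apply mul_nonneg (inv_nonneg.2 ht.le)
          have : ∑ i ∈ s, u i * α i z ≤ 0 :=
            Finset.sum_nonpos fun i hi => mul_nonpos_of_nonneg_of_nonpos (hu i) (hz i hi)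
          linarith
        · exact hu i
      · rw [Finset.sum_insert ha]
        dsimp only
        rw [if_pos rfl]
        have h2 : ∑ i ∈ s, (if i = a then t⁻¹ * (γ z - ∑ i ∈ s, u i * α i z) else u i) • α i =
            ∑ i ∈ s, u i • α i := by
          refine Finset.sum_congr rfl fun i hi => ?_
          rw [if_neg]
          rintro rfl
          exact ha hi
        rw [h2]
        have h3 : γ = ∑ i ∈ s, u i • (α i - (t⁻¹ * α i z) • α a) + (t⁻¹ * γ z) • α a := by
          rw [← hγ']; abel
        have h4 : ∑ i ∈ s, u i • (α i - (t⁻¹ * α i z) • α a) =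
            ∑ i ∈ s, u i • α i - (t⁻¹ * ∑ i ∈ s, u i * α i z) • α a := by
          simp_rw [smul_sub, Finset.sum_sub_distrib, smul_smul]
          rw [← Finset.sum_smul, Finset.mul_sum]
          congr 2
          exact Finset.sum_congr rfl fun i _ => by ring
        rw [h4] at h3
        rw [h3]
        have h5 : (t⁻¹ * ((∑ i ∈ s, u i • α i - (t⁻¹ * ∑ i ∈ s, u i * α i z) • α a +
            (t⁻¹ * γ z) • α a) z - ∑ i ∈ s, u i * α i z)) =
            t⁻¹ * (γ z - ∑ i ∈ s, u i * α i z) := by rw [← h3]
        rw [h5]
        module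

/-- Membership in the convex hull of a finite set is detected by linear functionals. -/
theorem mem_convexHull_of_forall {R : Type*} [Field R] [LinearOrder R] [IsStrictOrderedRing R]
    {M N : Type*} [AddCommGroup M] [Module R M] [AddCommGroup N] [Module R N]
    (p : M →ₗ[R] N →ₗ[R] R) (hp : ∀ y z : N, (∀ ξ : M, p ξ y = p ξ z) → y = z)
    {s : Set N} (hs : s.Finite) {x : N} (h : ∀ ξ : M, ∃ y ∈ s, p ξ y ≤ p ξ x) :
    x ∈ convexHull R s := by
  classical
  obtain ⟨u, hu, hγ⟩ := farkas (R := R) (V := M × R) hs.toFinset
    (fun y => (p.flip y).comp (LinearMap.fst R M R) + LinearMap.snd R M R)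
    ((p.flip x).comp (LinearMap.fst R M R) + LinearMap.snd R M R) (by
      rintro ⟨ξ, t⟩ hx
      obtain ⟨y, hy, hyx⟩ := h (-ξ)
      have h1 := hx y (hs.mem_toFinset.2 hy)
      simp only [LinearMap.add_apply, LinearMap.comp_apply, LinearMap.fst_apply,
        LinearMap.snd_apply, LinearMap.flip_apply] at h1 ⊢
      rw [map_neg, LinearMap.neg_apply, LinearMap.neg_apply] at hyx
      linarith)
  have h1 : ∑ y ∈ hs.toFinset, u y = 1 := by
    have := congrArg (fun f => f ((0 : M), (1 : R))) hγ
    simpa [LinearMap.sum_apply] using this.symm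
  have h2 : x = ∑ y ∈ hs.toFinset, u y • y := by
    apply hp
    intro ξ
    have := congrArg (fun f => f (ξ, (0 : R))) hγ
    simpa [LinearMap.sum_apply, map_sum] using this
  rw [h2]
  exact (convex_convexHull R s).sum_mem (fun i _ => hu i) h1
    (fun i hi => subset_convexHull R s (hs.mem_toFinset.1 hi))

end K816.Farkas
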