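import Groth.Agent.RootCh.K816.Combos

/-!
# Parabolic sets of roots
-/

set_option autoImplicit false
set_option linter.unusedSectionVars false
set_option linter.style.haveILetI false

noncomputable section

open Module RootCh K816.Basics K816.Chambers K816.Corners K816.Combos

namespace K816.Parabolic

universe u v w x

variable {ι : Type u} {R : Type v} {M : Type w} {N : Type x}
    [Field R] [LinearOrder R] [IsStrictOrderedRing R]
    [AddCommGroup M] [Module R M] [AddCommGroup N] [Module R N] [Finite ι]

variable {P : RootPairing ι R M N}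

/-- `S` is closed under addition of roots -/
def IsClosedSet (P : RootPairing ι R M N) (S : Set ι) : Prop :=
  ∀ i j k : ι, i ∈ S → j ∈ S → P.root k = P.root i + P.root j → k ∈ S

section
variable [P.IsCrystallographic] [P.IsReduced]

lemma reflectionPerm_mem_of_nonpos {S : Set ι} (hS : IsClosedSet P S) {i j : ι} (hi : i ∈ S)
    (hj : j ∈ S) (h : P.pairingIn ℤ j i ≤ 0) : P.reflectionPerm i j ∈ S := by
  obtain ⟨n, hn⟩ : ∃ n : ℕ, P.pairingIn ℤ j i = -(n : ℤ) := ⟨(-P.pairingIn ℤ j i).toNat, by lia⟩
  have hroot : P.root (P.reflectionPerm i j) = P.root j + n • P.root i := by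
    rw [P.root_reflectionPerm, P.reflection_apply_root' ℤ, hn]
    simp
  by_cases hij : i = j
  · subst hij
    rw [P.pairingIn_same] at hn
    lia
  by_cases hij' : P.root i = - P.root j
  · have : P.root (P.reflectionPerm i j) = P.root i := by
      rw [P.root_reflectionPerm]
      have : P.root j = - P.root i := by rw [hij', neg_neg]
      rw [this, map_neg, P.reflection_apply_self, neg_neg]
    rw [P.root.injective this]
    exact hi
  have hli : LinearIndependent R ![P.root i, P.root j] :=
    RootPairing.IsReduced.linearIndependent P hij hij'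
  have hle : n ≤ P.chainTopCoeff i j := by
    rw [← P.root_add_nsmul_mem_range_iff_le_chainTopCoeff hli, ← hroot]
    exact ⟨_, rfl⟩
  have key : ∀ t : ℕ, t ≤ n → ∃ k ∈ S, P.root k = P.root j + t • P.root i := by
    intro t
    induction t with
    | zero => exact fun _ => ⟨j, hj, by simp⟩
    | succ t ih =>
      intro ht
      obtain ⟨k, hk, hk'⟩ := ih (by lia)
      have h1 : P.root j + (t + 1) • P.root i ∈ Set.range P.root := by
        rw [P.root_add_nsmul_mem_range_iff_le_chainTopCoeff hli]; lia
      obtain ⟨l, hl⟩ := h1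
      refine ⟨l, hS k i l hk hi ?_, hl⟩
      rw [hl, hk', add_smul, one_smul, add_assoc]
  obtain ⟨k, hk, hk'⟩ := key n le_rfl
  rw [← hroot] at hk'
  rw [← P.root.injective hk']
  exact hk

omit [Finite ι] [LinearOrder R] [IsStrictOrderedRing R] [P.IsCrystallographic] [P.IsReduced] in
lemma pairing_reflectionPerm_self (i j : ι) :
    P.pairing (P.reflectionPerm i j) i = - P.pairing j i := by
  rw [← P.pairing_reflectionPerm i j i, P.pairing_reflectionPerm_self_right]

lemma coroot'_sum_root (S : Set ι) (i : ι) :
    P.coroot' i (∑ j ∈ (Set.toFinite S).toFinset, P.root j) =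
      ∑ j ∈ (Set.toFinite S).toFinset, P.pairing j i := by
  rw [map_sum]
  rfl

lemma reflectionPerm_mem_of_mem {S : Set ι} (hS : IsClosedSet P S) {i j : ι} (hi : i ∈ S)
    (hi' : P.reflectionPerm i i ∈ S) (hj : j ∈ S) : P.reflectionPerm i j ∈ S := by
  rcases le_total (P.pairingIn ℤ j i) 0 with h | h
  · exact reflectionPerm_mem_of_nonpos hS hi hj h
  · have h1 : P.pairingIn ℤ j (P.reflectionPerm i i) ≤ 0 := by
      have : P.pairingIn ℤ j (P.reflectionPerm i i) = - P.pairingIn ℤ j i := by
        have : (P.pairingIn ℤ j (P.reflectionPerm i i) : R) = - (P.pairingIn ℤ j i : R) := by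
          have h2 := P.algebraMap_pairingIn ℤ j (P.reflectionPerm i i)
          have h3 := P.algebraMap_pairingIn ℤ j i
          simp only [algebraMap_int_eq, eq_intCast] at h2 h3
          rw [h2, h3, P.pairing_reflectionPerm_self_right]
        exact_mod_cast this
      lia
    have h2 := reflectionPerm_mem_of_nonpos hS hi' hj h1
    have h3 : P.reflectionPerm (P.reflectionPerm i i) j = P.reflectionPerm i j := by
      apply P.root.injective
      rw [P.root_reflectionPerm, P.root_reflectionPerm, P.reflection_apply_root,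
        P.reflection_apply_root, P.pairing_reflectionPerm_self_right, P.root_reflectionPerm,
        P.reflection_apply_self]
      simp
    rwa [h3] at h2

/-- The symmetric part contributes zero. -/
lemma sum_pairing_symm_part (T : Finset ι) (i : ι) (hT : ∀ j ∈ T, P.reflectionPerm i j ∈ T) :
    ∑ j ∈ T, P.pairing j i = 0 := by
  refine Finset.sum_involution (fun j _ => P.reflectionPerm i j) ?_ ?_ hT ?_
  · intro j _
    rw [pairing_reflectionPerm_self, add_neg_cancel]
  · intro j _ hj h
    apply hj
    have h1 := pairing_reflectionPerm_self (P := P) i j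
    rw [h] at h1
    linarith
  · intro j _
    exact P.reflectionPerm_self i j

lemma sum_pairing_eq_zero {S : Set ι} (hS : IsClosedSet P S) {i : ι} (hi : i ∈ S)
    (hi' : P.reflectionPerm i i ∈ S) :
    ∑ j ∈ (Set.toFinite S).toFinset, P.pairing j i = 0 := by
  apply sum_pairing_symm_part
  intro j hj
  rw [Set.Finite.mem_toFinset] at hj ⊢
  exact reflectionPerm_mem_of_mem hS hi hi' hj

lemma sum_pairing_pos {S : Set ι} (hS : IsClosedSet P S) {i : ι} (hi : i ∈ S)
    (hi' : P.reflectionPerm i i ∉ S) :
    0 < ∑ j ∈ (Set.toFinite S).toFinset, P.pairing j i := by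
  classical
  rw [← Finset.sum_filter_add_sum_filter_not (Set.toFinite S).toFinset
    (fun j => P.reflectionPerm i j ∈ S)]
  have h1 : ∑ j ∈ (Set.toFinite S).toFinset with P.reflectionPerm i j ∈ S, P.pairing j i = 0 := by
    apply sum_pairing_symm_part
    intro j hj
    rw [Finset.mem_filter, Set.Finite.mem_toFinset] at hj ⊢
    refine ⟨hj.2, ?_⟩
    rw [P.reflectionPerm_self]
    exact hj.1
  rw [h1, zero_add]
  apply Finset.sum_pos
  · intro j hj
    rw [Finset.mem_filter, Set.Finite.mem_toFinset] at hj
    by_contra hle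
    apply hj.2
    apply reflectionPerm_mem_of_nonpos hS hi hj.1
    have h3 := P.algebraMap_pairingIn ℤ j i
    simp only [algebraMap_int_eq, eq_intCast] at h3
    rw [← h3, not_lt] at hle
    exact_mod_cast hle
  · exact ⟨i, by rw [Finset.mem_filter, Set.Finite.mem_toFinset]; exact ⟨hi, hi'⟩⟩

end

section
variable [P.IsRootSystem]

lemma parab_isParabolicSubset (F : Facet P) : IsParabolicSubset P F.parab := by
  obtain ⟨y, hy⟩ := dualCarrier_nonempty F
  have hy' : cosgnVec P y = F.sgn := hy
  constructor
  · intro i j k hi hj hk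
    change F.sgn k ≠ -1
    rw [← hy', cosgnVec_ne_neg_one_iff]
    have hi' : 0 ≤ P.root' i y := by
      rw [← cosgnVec_ne_neg_one_iff, hy']; exact hi
    have hj' : 0 ≤ P.root' j y := by
      rw [← cosgnVec_ne_neg_one_iff, hy']; exact hj
    have : P.root' k y = P.root' i y + P.root' j y := by
      change P.toLinearMap (P.root k) y = _
      rw [hk, map_add, LinearMap.add_apply]
    rw [this]
    exact add_nonneg hi' hj'
  · intro i
    by_cases h : F.sgn i = -1
    · right
      change F.sgn _ ≠ -1
      rw [facet_sgn_neg_index, h]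
      decide
    · left; exact h

variable [P.IsCrystallographic] [P.IsReduced]

/-- the sign vector of the sum of the roots of a parabolic set. -/
lemma sgnVec_sum_root {S : Set ι} (hS : IsParabolicSubset P S) (i : ι) :
    (sgnVec P (∑ j ∈ (Set.toFinite S).toFinset, P.root j) i ≠ -1 ↔ i ∈ S) ∧
    (sgnVec P (∑ j ∈ (Set.toFinite S).toFinset, P.root j) i = 1 ↔ P.reflectionPerm i i ∉ S) := by
  have key : ∀ i, i ∈ S → P.reflectionPerm i i ∉ S →
      sgnVec P (∑ j ∈ (Set.toFinite S).toFinset, P.root j) i = 1 := by
    intro i hi hi'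
    rw [sgnVec_eq_one_iff, coroot'_sum_root]
    exact sum_pairing_pos hS.1 hi hi'
  have key0 : ∀ i, i ∈ S → P.reflectionPerm i i ∈ S →
      sgnVec P (∑ j ∈ (Set.toFinite S).toFinset, P.root j) i = 0 := by
    intro i hi hi'
    rw [sgnVec_eq_zero_iff, coroot'_sum_root]
    exact sum_pairing_eq_zero hS.1 hi hi'
  by_cases hi : i ∈ S
  · by_cases hi' : P.reflectionPerm i i ∈ S
    · rw [key0 i hi hi']
      simp [hi, hi']
    · rw [key i hi hi']
      simp [hi, hi']
  · have hi' : P.reflectionPerm i i ∈ S := (hS.2 i).resolve_left hi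
    have := key (P.reflectionPerm i i) hi' (by rw [neg_neg_index]; exact hi)
    rw [sgnVec_neg_index] at this
    have h2 : sgnVec P (∑ j ∈ (Set.toFinite S).toFinset, P.root j) i = -1 := by
      rw [← this, neg_neg]
    rw [h2]
    simp [hi, hi']

lemma exists_facet_parab_eq {S : Set ι} (hS : IsParabolicSubset P S) :
    (Facet.ofVec P (∑ j ∈ (Set.toFinite S).toFinset, P.root j)).parab = S := by
  ext i
  exact (sgnVec_sum_root hS i).1

omit [P.IsCrystallographic] [P.IsReduced] in
lemma facet_ext_parab {F G : Facet P} (h : F.parab = G.parab) : F = G := by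
  apply Facet.ext
  funext i
  have h1 : (F.sgn i ≠ -1) ↔ (G.sgn i ≠ -1) := Set.ext_iff.1 h i
  have h2 : (F.sgn (P.reflectionPerm i i) ≠ -1) ↔ (G.sgn (P.reflectionPerm i i) ≠ -1) :=
    Set.ext_iff.1 h _
  rw [facet_sgn_neg_index, facet_sgn_neg_index] at h2
  revert h1 h2
  generalize F.sgn i = a
  generalize G.sgn i = c
  revert a c
  decide

omit [P.IsCrystallographic] [P.IsReduced] in
lemma le_iff_parab_subset {F G : Facet P} : F ≤ G ↔ F.parab ⊆ G.parab := by
  constructor
  · intro h i hi
    have h1 := (Facet.le_def F G).1 h i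
    change G.sgn i ≠ -1
    rcases h1 with h1 | h1
    · rw [h1]; decide
    · rw [h1]; exact hi
  · intro h
    rw [Facet.le_def]
    intro i
    have h1 : F.sgn i ≠ -1 → G.sgn i ≠ -1 := fun hi => h hi
    have h2 : F.sgn (P.reflectionPerm i i) ≠ -1 → G.sgn (P.reflectionPerm i i) ≠ -1 :=
      fun hi => h hi
    rw [facet_sgn_neg_index, facet_sgn_neg_index] at h2
    revert h1 h2
    generalize F.sgn i = a
    generalize G.sgn i = c
    revert a c
    decide

lemma sum_root_parab_mem_carrier (F : Facet P) :
    (∑ i ∈ (Set.toFinite F.parab).toFinset, P.root i) ∈ F.carrier := by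
  have h := exists_facet_parab_eq (parab_isParabolicSubset F)
  have h2 := facet_ext_parab h
  have h3 : (∑ i ∈ (Set.toFinite F.parab).toFinset, P.root i) ∈
    (Facet.ofVec P (∑ i ∈ (Set.toFinite F.parab).toFinset, P.root i)).carrier := mem_ofVec _
  rwa [h2] at h3

end

end K816.Parabolic
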