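import Groth.Prelude.Def_RootCh2
import Groth.Agent.RootCh.K816.Parabolic

/-!
# Adjacent chambers, galleries, complementary convex solids
-/

set_option autoImplicit false
set_option linter.unusedSectionVars false
set_option linter.style.haveILetI false

noncomputable section

open Module RootCh K816.Basics K816.Chambers K816.Corners K816.Combos K816.Parabolic

namespace K816.Gallery

universe u v w x

variable {ι : Type u} {R : Type v} {M : Type w} {N : Type x}
    [Field R] [LinearOrder R] [IsStrictOrderedRing R]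
    [AddCommGroup M] [Module R M] [AddCommGroup N] [Module R N] [Finite ι]

variable {P : RootPairing ι R M N} [P.IsRootSystem]

section
variable [P.IsCrystallographic] [P.IsReduced]

/-- Reflecting a base in one of its simple roots. -/
lemma exists_adjacent (b : P.Base) {k : ι} (hk : k ∈ b.support) :
    ∃ b' : P.Base, ∀ j, b'.IsPos j ↔ (j = P.reflectionPerm k k ∨ (b.IsPos j ∧ j ≠ k)) := by
  have h1 : ∀ j, P.coroot' j (P.reflection k (rho b)) = P.coroot' (P.reflectionPerm k j) (rho b) :=
    fun j => P.coroot'_reflection (rho b)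
  have hreg : ∀ j, P.coroot' j (rho b) ≠ 0 := by
    intro j h
    by_cases hj : b.IsPos j
    · exact ((mem_openChamber_iff b _).1 (rho_mem_openChamber b) j hj).ne' h
    · rw [← isPos_neg_index] at hj
      have := (mem_openChamber_iff b _).1 (rho_mem_openChamber b) _ hj
      rw [coroot'_neg_index, h, neg_zero] at this
      exact lt_irrefl _ this
  obtain ⟨b', hb'⟩ := exists_base_of_regular (P := P) (P.reflection k (rho b))
    (fun j => by rw [h1]; exact hreg _)
  refine ⟨b', fun j => ?_⟩
  have h2 : b'.IsPos j ↔ b.IsPos (P.reflectionPerm k j) := by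
    rw [← coroot'_pos_iff_isPos b' j _ hb', h1,
      ← coroot'_pos_iff_isPos b _ (rho b) (rho_mem_openChamber b)]
  rw [h2]
  have hkpos : b.IsPos k := RootPairing.Base.isPos_of_mem_support hk
  constructor
  · intro h
    by_cases hjk : P.reflectionPerm k j = k
    · left
      rw [← P.reflectionPerm_self k j, hjk]
    · right
      have h3 := RootPairing.Base.IsPos.reflectionPerm h hk hjk
      rw [P.reflectionPerm_self] at h3
      refine ⟨h3, ?_⟩
      rintro rfl
      rw [isPos_neg_index] at h
      exact h hkpos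
  · rintro (rfl | ⟨h, hjk⟩)
    · rw [P.reflectionPerm_self]; exact hkpos
    · exact RootPairing.Base.IsPos.reflectionPerm h hk hjk

end

/-- `b'` is adjacent to `b` across the wall of the simple root `k`. -/
def Adj (b b' : P.Base) (k : ι) : Prop :=
  ∀ j, b'.IsPos j ↔ (j = P.reflectionPerm k k ∨ (b.IsPos j ∧ j ≠ k))

lemma reflectionPerm_self_ne (k : ι) : P.reflectionPerm k k ≠ k := by
  letI := P.indexNeg
  exact (P.ne_neg k).symm

lemma Adj.sep {b b' : P.Base} {k : ι} (hk : b.IsPos k) (h : Adj b b' k) (j : ι) :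
    (b.IsPos j ∧ ¬ b'.IsPos j) ↔ j = k := by
  rw [h j]
  constructor
  · rintro ⟨h1, h2⟩
    push Not at h2
    exact h2.2 h1
  · rintro rfl
    refine ⟨hk, ?_⟩
    rintro (h1 | h1)
    · exact reflectionPerm_self_ne _ h1.symm
    · exact h1.2 rfl

lemma Adj.fundWeight_mem_iff {b b' : P.Base} {k : b.support} (h : Adj b b' k) (l : b.support) :
    fundWeight b l ∈ closedChamber b' ↔ l ≠ k := by
  rw [mem_closedChamber_iff]
  constructor
  · rintro h1 rfl
    have := h1 (P.reflectionPerm l l) ((h _).2 (Or.inl rfl))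
    rw [coroot'_neg_index, coroot'_fundWeight_self b l] at this
    linarith
  · intro hlk j hj
    rcases (h j).1 hj with rfl | ⟨h1, h2⟩
    · rw [coroot'_neg_index, coroot'_fundWeight_of_ne b l k hlk.symm, neg_zero]
    · exact (mem_closedChamber_iff b _).1 (fundWeight_mem_closedChamber b l) j h1

lemma Adj.corners_inter {b b' : P.Base} {k : b.support} (h : Adj b b' k) :
    baseCorners b ∩ baseCorners b' = fundWeight b '' {k}ᶜ := by
  ext m
  constructor
  · rintro ⟨h1, h2⟩
    rw [baseCorners_eq] at h1
    obtain ⟨l, rfl⟩ := h1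
    exact ⟨l, (h.fundWeight_mem_iff l).1 h2.2, rfl⟩
  · rintro ⟨l, hl, rfl⟩
    exact ⟨fundWeight_mem_baseCorners b l, fundWeight_mem_fundWeights b l,
      (h.fundWeight_mem_iff l).2 hl⟩

lemma Adj.ncard {b b' : P.Base} {k : b.support} (h : Adj b b' k) :
    (baseCorners b ∩ baseCorners b').ncard + 1 = b.support.card := by
  classical
  rw [h.corners_inter, Set.ncard_image_of_injective _ (fundWeight_injective b)]
  have h1 : ({k}ᶜ : Set b.support).ncard + ({k} : Set b.support).ncard = Nat.card b.support := by
    rw [add_comm]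
    exact Set.ncard_add_ncard_compl _
  rw [Set.ncard_singleton] at h1
  rw [h1, Nat.card_eq_fintype_card, Fintype.card_coe]

/-- (B2) across a wall. -/
lemma Adj.exists_coeff {d : P.Base → N} (hd : IsCCS d) {b b' : P.Base} {k : ι}
    (hk : k ∈ b.support) (h : Adj b b' k) :
    ∃ c : R, 0 ≤ c ∧ d b' = d b + c • P.coroot k := by
  have hkpos : b.IsPos k := RootPairing.Base.isPos_of_mem_support hk
  have h' : Adj b b' (⟨k, hk⟩ : b.support) := h
  have h1 := hd.wall_le b b' k h'.ncard (Adj.sep hkpos h)
  have h2 : ∀ l : b.support, l ≠ ⟨k, hk⟩ →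
      P.toLinearMap (fundWeight b l) (d b' - d b) = 0 := by
    intro l hl
    rw [map_sub, sub_eq_zero]
    have hl' : fundWeight b l ∈ baseCorners b ∩ baseCorners b' := by
      rw [h'.corners_inter]; exact ⟨l, hl, rfl⟩
    exact (hd.corner_eq b b' _ hl'.1 hl'.2).symm
  refine ⟨P.toLinearMap (fundWeight b ⟨k, hk⟩) (d b' - d b), ?_, ?_⟩
  · have h3 := pairing_eq_sum b (P.root k) (d b' - d b)
    rw [Finset.sum_eq_single (⟨k, hk⟩ : b.support)] at h3
    · have h4 : P.coroot' k (P.root k) = 2 := P.root_coroot_two k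
      change _ = P.coroot' k (P.root k) * _ at h3
      rw [h4] at h3
      have h5 : P.toLinearMap (P.root k) (d b' - d b) = P.root' k (d b') - P.root' k (d b) := by
        rw [map_sub]
      rw [h5] at h3
      linarith
    · intro l _ hl
      rw [h2 l hl, mul_zero]
    · intro hn; exact absurd (Finset.mem_univ _) hn
  · have h3 := sum_coroot b (d b' - d b)
    rw [Finset.sum_eq_single (⟨k, hk⟩ : b.support)] at h3
    · rw [h3]; abel
    · intro l _ hl
      rw [h2 l hl, zero_smul]
    · intro hn; exact absurd (Finset.mem_univ _) hn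

lemma eq_of_isPos_imp {d : P.Base → N} (hd : IsCCS d) {b b' : P.Base}
    (h : ∀ j, b.IsPos j → b'.IsPos j) : d b = d b' := by
  have h' : ∀ j, b'.IsPos j → b.IsPos j := by
    intro j hj
    by_contra hn
    rw [← isPos_neg_index] at hn
    have := h _ hn
    rw [isPos_neg_index] at this
    exact this hj
  have hc : closedChamber b = closedChamber b' := by
    ext ξ
    rw [mem_closedChamber_iff, mem_closedChamber_iff]
    exact ⟨fun h1 i hi => h1 i (h' i hi), fun h1 i hi => h1 i (h i hi)⟩
  have h3 : ∀ l : b.support, P.toLinearMap (fundWeight b l) (d b) =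
      P.toLinearMap (fundWeight b l) (d b') := by
    intro l
    have h4 := fundWeight_mem_baseCorners b l
    exact hd.corner_eq b b' _ h4 ⟨h4.1, hc ▸ h4.2⟩
  rw [← sum_coroot b (d b), ← sum_coroot b (d b')]
  exact Finset.sum_congr rfl fun l _ => by rw [h3 l]

/-- The set of roots separating two chambers. -/
def sepSet (b b' : P.Base) : Set ι := {j | b.IsPos j ∧ ¬ b'.IsPos j}

/-- If `b` and `b'` have a separating root, some simple root of `b'` is negative for `b`. -/
lemma exists_simple_sep {b b' : P.Base} (h : ∃ j, b.IsPos j ∧ ¬ b'.IsPos j) :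
    ∃ k ∈ b'.support, ¬ b.IsPos k := by
  by_contra hcon
  push Not at hcon
  obtain ⟨j, hj, hj'⟩ := h
  have h1 : corho b ∈ {y : N | ∀ k ∈ b'.support, 0 < P.root' k y} := by
    intro k hk
    exact (root'_pos_iff_isPos b k (corho b) fun l hl => by
      rw [root'_corho b hl]; exact one_pos).2 (hcon k hk)
  apply hj'
  rw [← root'_pos_iff_isPos b' j (corho b) h1]
  exact (root'_pos_iff_isPos b j (corho b) fun l hl => by
      rw [root'_corho b hl]; exact one_pos).2 hj

variable [P.IsCrystallographic] [P.IsReduced]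

/-- Gallery inequality: if every root separating `b` from `b'` (positive for `b`, negative for
`b'`) has coroot non-negative on `ξ` then `⟪ξ, d b⟫ ≤ ⟪ξ, d b'⟫`. -/
theorem gallery_le {d : P.Base → N} (hd : IsCCS d) (b b' : P.Base) (ξ : M)
    (hξ : ∀ j, b.IsPos j → ¬ b'.IsPos j → 0 ≤ P.coroot' j ξ) :
    P.toLinearMap ξ (d b) ≤ P.toLinearMap ξ (d b') := by
  induction hn : (sepSet b b').ncard using Nat.strong_induction_on generalizing b' with
  | _ n ih =>
    by_cases hsep : ∃ j, b.IsPos j ∧ ¬ b'.IsPos j
    · obtain ⟨k, hk, hkb⟩ := exists_simple_sep hsep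
      obtain ⟨b'', hb''⟩ := exists_adjacent b' hk
      have hkb' : b.IsPos (P.reflectionPerm k k) := (isPos_neg_index b k).2 hkb
      have hkpos : b'.IsPos k := RootPairing.Base.isPos_of_mem_support hk
      have hsub : sepSet b b'' = sepSet b b' \ {P.reflectionPerm k k} := by
        ext j
        simp only [sepSet, Set.mem_ofPred_eq, Set.mem_sdiff, Set.mem_singleton_iff, hb'' j]
        constructor
        · rintro ⟨h1, h2⟩
          push Not at h2
          refine ⟨⟨h1, fun h3 => ?_⟩, h2.1⟩
          have := h2.2 h3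
          subst this
          exact hkb h1
        · rintro ⟨⟨h1, h2⟩, h3⟩
          refine ⟨h1, ?_⟩
          rintro (h4 | h4)
          · exact h3 h4
          · exact h2 h4.1
      have hmem : P.reflectionPerm k k ∈ sepSet b b' :=
        ⟨hkb', fun h => (isPos_neg_index b' k).1 h hkpos⟩
      have hlt : (sepSet b b'').ncard < n := by
        rw [hsub, ← hn]
        exact Set.ncard_sdiff_singleton_lt_of_mem hmem (Set.toFinite _)
      have h1 := ih _ hlt b'' (fun j hj hj' => by
        have : j ∈ sepSet b b'' := ⟨hj, hj'⟩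
        rw [hsub] at this
        exact hξ j this.1.1 this.1.2) rfl
      obtain ⟨c, hc, hdb⟩ := Adj.exists_coeff hd hk hb''
      have h2 : P.toLinearMap ξ (d b'') = P.toLinearMap ξ (d b') + c * P.coroot' k ξ := by
        rw [hdb, map_add, map_smul, smul_eq_mul]
        rfl
      have h3 : P.coroot' k ξ ≤ 0 := by
        have := hξ _ hmem.1 hmem.2
        rw [coroot'_neg_index] at this
        linarith
      have h4 : c * P.coroot' k ξ ≤ 0 := mul_nonpos_of_nonneg_of_nonpos hc h3
      linarith
    · push Not at hsep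
      rw [eq_of_isPos_imp hd hsep]

/-- For `ξ` in the closed chamber of `b`, the value `⟪ξ, d b⟫` is the minimum. -/
theorem le_of_mem_closedChamber {d : P.Base → N} (hd : IsCCS d) (b b' : P.Base) {ξ : M}
    (hξ : ξ ∈ closedChamber b) : P.toLinearMap ξ (d b) ≤ P.toLinearMap ξ (d b') :=
  gallery_le hd b b' ξ fun j hj _ => (mem_closedChamber_iff b ξ).1 hξ j hj

/-- roots separating two chambers adjacent to the facet `F` vanish on `F`. -/
lemma sgn_eq_zero_of_sep {F : Facet P} {b b' : P.Base} (hb : b ∈ F.cham) (hb' : b' ∈ F.cham)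
    {j : ι} (hj : b.IsPos j) (hj' : ¬ b'.IsPos j) : F.sgn j = 0 := by
  have h1 := (mem_cham_iff_isPos F b).1 hb j hj
  rw [← isPos_neg_index] at hj'
  have h2 := (mem_cham_iff_isPos F b').1 hb' _ hj'
  rw [facet_sgn_neg_index] at h2
  revert h1 h2
  generalize F.sgn j = a
  revert a
  decide

lemma pairing_eq_of_cham {d : P.Base → N} (hd : IsCCS d) {F : Facet P} {b b' : P.Base}
    (hb : b ∈ F.cham) (hb' : b' ∈ F.cham) {ξ : M} (hξ : ξ ∈ F.closure) :
    P.toLinearMap ξ (d b) = P.toLinearMap ξ (d b') := by
  apply le_antisymm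
  · exact le_of_mem_closedChamber hd b b' (closure_subset_closedChamber hb hξ)
  · exact le_of_mem_closedChamber hd b' b (closure_subset_closedChamber hb' hξ)

end K816.Gallery
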