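import Groth.Agent.RootCh.K816.Gallery
import Groth.Agent.RootCh.K816.Farkas

/-!
# Dual solids, semi-stability
-/

set_option autoImplicit false
set_option linter.unusedSectionVars false
set_option linter.style.haveILetI false

noncomputable section

open Module RootCh K816.Basics K816.Chambers K816.Corners K816.Combos K816.Parabolic K816.Gallery

namespace K816.Solid

universe u v w x

variable {ι : Type u} {R : Type v} {M : Type w} {N : Type x}
    [Field R] [LinearOrder R] [IsStrictOrderedRing R]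
    [AddCommGroup M] [Module R M] [AddCommGroup N] [Module R N] [Finite ι]

variable {P : RootPairing ι R M N} [P.IsRootSystem]

lemma finite_base : Finite P.Base := by
  refine Finite.of_injective (fun b : P.Base => b.support) ?_
  rintro ⟨s, _, _, _, _⟩ ⟨t, _, _, _, _⟩ h
  simpa using h

lemma le_of_mem_dualSolid {d : P.Base → N} {F : Facet P} {x : N} (hx : x ∈ dualSolid d F)
    {ξ : M} {a : R} (h : ∀ b ∈ F.cham, a ≤ P.toLinearMap ξ (d b)) : a ≤ P.toLinearMap ξ x := by
  have h1 : dualSolid d F ⊆ {y | a ≤ P.toLinearMap ξ y} := by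
    apply convexHull_min
    · rintro _ ⟨b, hb, rfl⟩
      exact h b hb
    · exact convex_halfSpace_ge (P.toLinearMap ξ).isLinear a
  exact h1 hx

lemma ge_of_mem_dualSolid {d : P.Base → N} {F : Facet P} {x : N} (hx : x ∈ dualSolid d F)
    {ξ : M} {a : R} (h : ∀ b ∈ F.cham, P.toLinearMap ξ (d b) ≤ a) : P.toLinearMap ξ x ≤ a := by
  have h1 : dualSolid d F ⊆ {y | P.toLinearMap ξ y ≤ a} := by
    apply convexHull_min
    · rintro _ ⟨b, hb, rfl⟩
      exact h b hb
    · exact convex_halfSpace_le (P.toLinearMap ξ).isLinear a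
  exact h1 hx

lemma eq_of_mem_dualSolid {d : P.Base → N} {F : Facet P} {x : N} (hx : x ∈ dualSolid d F)
    {ξ : M} {a : R} (h : ∀ b ∈ F.cham, P.toLinearMap ξ (d b) = a) : P.toLinearMap ξ x = a :=
  le_antisymm (ge_of_mem_dualSolid hx fun b hb => (h b hb).le)
    (le_of_mem_dualSolid hx fun b hb => (h b hb).ge)

lemma ext_pairing {y z : N} (h : ∀ ξ : M, P.toLinearMap ξ y = P.toLinearMap ξ z) : y = z := by
  apply P.flip.toPerfPair.injective
  ext ξ
  exact h ξ

variable [P.IsCrystallographic] [P.IsReduced]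

/-- Value of `d` at a fixed adjacent chamber on the corners of a facet: any `b' ` with the corner. -/
lemma dualSolid_subset {d : P.Base → N} (hd : IsCCS d) (F : Facet P) :
    dualSolid d F ⊆ (⋂ m ∈ F.corners, hyper d m) ∩ ⋂ m ∈ F.corners', halfClosed d m := by
  intro x hx
  refine ⟨?_, ?_⟩
  · rw [Set.mem_iInter₂]
    intro m hm b' hb'
    exact eq_of_mem_dualSolid hx fun b hb =>
      hd.corner_eq b b' m (corners_subset_baseCorners hb hm) hb'
  · rw [Set.mem_iInter₂]
    intro m _ b' hb'
    exact le_of_mem_dualSolid hx fun b _ => le_of_mem_closedChamber hd b' b hb'.2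

/-- The key minimality property. -/
lemma exists_cham_le {d : P.Base → N} (F : Facet P) {x : N}
    (hx : x ∈ (⋂ m ∈ F.corners, hyper d m) ∩ ⋂ m ∈ F.corners', halfClosed d m) (ξ : M) :
    ∃ b ∈ F.cham, P.toLinearMap ξ (d b) ≤ P.toLinearMap ξ x := by
  obtain ⟨η, hη⟩ := Facet.carrier_nonempty F
  obtain ⟨b, hb⟩ := exists_base_lex (P := P) η ξ
  have hbc : b ∈ F.cham := by
    rw [mem_cham_iff_of_mem F b hη, mem_closedChamber_iff]
    intro i hi
    rcases hb i hi with h | ⟨h, -⟩
    · exact h.le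
    · exact h.ge
  refine ⟨b, hbc, ?_⟩
  obtain ⟨hx1, hx2⟩ := hx
  rw [Set.mem_iInter₂] at hx1 hx2
  rw [pairing_eq_sum b ξ (d b), pairing_eq_sum b ξ x]
  refine Finset.sum_le_sum fun k _ => ?_
  by_cases h0 : F.sgn k = 0
  · have h1 : P.coroot' k η = 0 := (sgn_eq_zero_iff_of_mem hη k).1 h0
    have h2 : 0 ≤ P.coroot' k ξ := by
      rcases hb k (RootPairing.Base.isPos_of_mem_support k.2) with h | ⟨-, h⟩
      · exact absurd h1 h.ne'
      · exact h
    refine mul_le_mul_of_nonneg_left ?_ h2
    exact hx2 _ ((mem_corners'_iff F _).2 ⟨b, hbc, k, rfl⟩) b (fundWeight_mem_baseCorners b k)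
  · rw [hx1 _ ((fundWeight_mem_corners_iff hbc k).2 h0) b (fundWeight_mem_baseCorners b k)]

theorem dualSolid_eq {d : P.Base → N} (hd : IsCCS d) (F : Facet P) :
    dualSolid d F = (⋂ m ∈ F.corners, hyper d m) ∩ ⋂ m ∈ F.corners', halfClosed d m := by
  apply Set.Subset.antisymm (dualSolid_subset hd F)
  intro x hx
  haveI := finite_base (P := P)
  refine K816.Farkas.mem_convexHull_of_forall P.toLinearMap (fun y z h => ext_pairing h)
    (Set.toFinite _) fun ξ => ?_
  obtain ⟨b, hb, h⟩ := exists_cham_le F hx ξ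
  exact ⟨d b, ⟨b, hb, rfl⟩, h⟩

/-! ### The origin facet and the solid -/

omit [P.IsCrystallographic] [P.IsReduced] in
lemma mem_cham_origin (b : P.Base) : b ∈ (Facet.origin P).cham := by
  rw [mem_cham_iff]
  intro k _
  change SignType.sign (P.coroot' k 0) ≠ -1
  simp

omit [P.IsCrystallographic] [P.IsReduced] in
lemma dualSolid_origin (d : P.Base → N) : dualSolid d (Facet.origin P) = solid d := by
  rw [dualSolid, solid]
  congr 1
  ext y
  simp [mem_cham_origin]

omit [P.IsCrystallographic] [P.IsReduced] in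
lemma corners_origin_of_base (b : P.Base) : (Facet.origin P).corners = ∅ := by
  rw [corners_eq (mem_cham_origin b)]
  ext m
  simp only [Set.mem_ofPred_eq, Set.mem_empty_iff_false, iff_false, not_exists, not_and]
  intro k hk
  exfalso
  apply hk
  change SignType.sign (P.coroot' k 0) = 0
  simp

lemma mem_solid_iff {d : P.Base → N} (hd : IsCCS d) (x : N) :
    x ∈ solid d ↔ ∀ (b : P.Base) (k : b.support),
      P.toLinearMap (fundWeight b k) (d b) ≤ P.toLinearMap (fundWeight b k) x := by
  obtain ⟨b₀⟩ := P.nonempty_base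
  rw [← dualSolid_origin, dualSolid_eq hd, corners_origin_of_base b₀]
  simp only [Set.mem_empty_iff_false, Set.iInter_of_empty, Set.iInter_univ, Set.univ_inter,
    Set.mem_iInter]
  constructor
  · intro h b k
    exact h _ ((mem_corners'_iff _ _).2 ⟨b, mem_cham_origin b, k, rfl⟩) b
      (fundWeight_mem_baseCorners b k)
  · intro h m hm b hb
    rw [baseCorners_eq] at hb
    obtain ⟨k, rfl⟩ := hb
    exact h b k

theorem isSemistable_iff {d : P.Base → N} (hd : IsCCS d) :
    IsSemistable d ↔ ∀ (b : P.Base) (k : b.support),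
      P.toLinearMap (fundWeight b k) (d b) ≤ 0 := by
  rw [IsSemistable, mem_solid_iff hd]
  simp

theorem isSemistable_iff_corners {d : P.Base → N} (hd : IsCCS d) :
    (∀ (b : P.Base), ∀ m ∈ RootCh.baseCorners b, P.toLinearMap m (d b) ≤ 0) ↔
      RootCh.IsSemistable d := by
  rw [isSemistable_iff hd]
  refine forall_congr' fun b => ?_
  rw [baseCorners_eq]
  exact Set.forall_mem_range

/-! ### Degrees -/

omit [P.IsRootSystem] [P.IsCrystallographic] [P.IsReduced] in
lemma deg_eq (d : P.Base → N) (F : Facet P) (b : P.Base) :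
    F.deg d b = P.toLinearMap (∑ i ∈ (Set.toFinite F.parab).toFinset, P.root i) (d b) := by
  rw [Facet.deg, map_sum, LinearMap.sum_apply]

/-- degree as a positive combination of the pairings with the corners. -/
lemma deg_eq_sum (d : P.Base → N) {F : Facet P} {b : P.Base} (hb : b ∈ F.cham) :
    ∃ c : b.support → R, (∀ k : b.support, F.sgn k = 0 → c k = 0) ∧
      (∀ k : b.support, F.sgn k ≠ 0 → 0 < c k) ∧
      F.deg d b = ∑ k, c k * P.toLinearMap (fundWeight b k) (d b) := by
  have h := (mem_carrier_iff_coroot' hb _).1 (sum_root_parab_mem_carrier F)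
  exact ⟨_, fun k => (h k).1, fun k => (h k).2, by rw [deg_eq, pairing_eq_sum b]⟩

theorem deg_eq_deg {d : P.Base → N} (hd : IsCCS d) {F : Facet P} {b b' : P.Base}
    (hb : b ∈ F.cham) (hb' : b' ∈ F.cham) : F.deg d b = F.deg d b' := by
  rw [deg_eq, deg_eq]
  exact pairing_eq_of_cham hd hb hb' fun i => Or.inr (congrFun (sum_root_parab_mem_carrier F) i)

lemma deg_nonpos_of_isSemistable {d : P.Base → N} (hd : IsCCS d) (h : IsSemistable d)
    {F : Facet P} {b : P.Base} (hb : b ∈ F.cham) : F.deg d b ≤ 0 := by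
  obtain ⟨c, hc0, hc, hdeg⟩ := deg_eq_sum d hb
  rw [hdeg]
  refine Finset.sum_nonpos fun k _ => ?_
  by_cases h0 : F.sgn k = 0
  · rw [hc0 k h0, zero_mul]
  · exact mul_nonpos_of_nonneg_of_nonpos (hc k h0).le ((isSemistable_iff hd).1 h b k)

/-- The ray facet of a fundamental weight -/
lemma ray_sgn (b : P.Base) (k l : b.support) : (facetOf b {k}).sgn l ≠ 0 ↔ l = k := by
  classical
  rw [facetOf_sgn b {k} l]
  simp

lemma ray_deg (d : P.Base → N) (b : P.Base) (k : b.support) :
    ∃ c : R, 0 < c ∧ (facetOf b {k}).deg d b = c * P.toLinearMap (fundWeight b k) (d b) := by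
  obtain ⟨c, hc0, hc, hdeg⟩ := deg_eq_sum d (mem_cham_facetOf b {k})
  refine ⟨c k, hc k ((ray_sgn b k k).2 rfl), ?_⟩
  rw [hdeg, Finset.sum_eq_single k]
  · intro l _ hl
    rw [hc0 l, zero_mul]
    by_contra h
    exact hl ((ray_sgn b k l).1 h)
  · intro h; exact absurd (Finset.mem_univ _) h

lemma ray_dim (b : P.Base) (k : b.support) : (facetOf b {k}).dim = 1 := by
  rw [Facet.dim, span_carrier_eq, corners_facetOf, Finset.coe_singleton, Set.image_singleton]
  exact finrank_span_singleton (fundWeight_ne_zero b k)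

lemma isSemistable_of_ray_deg {d : P.Base → N} (hd : IsCCS d)
    (h : ∀ (b : P.Base) (k : b.support), (facetOf b {k}).deg d b ≤ 0) : IsSemistable d := by
  rw [isSemistable_iff hd]
  intro b k
  obtain ⟨c, hc, hdeg⟩ := ray_deg d b k
  have := h b k
  rw [hdeg] at this
  by_contra hn
  rw [not_le] at hn
  exact absurd (mul_pos hc hn) (not_lt.2 this)

end K816.Solid
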